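import Groth.Agent.L03.SepField
import Mathlib.RingTheory.DiscreteValuationRing.TFAE
import Mathlib.RingTheory.Polynomial.Eisenstein.Basic
import Mathlib.RingTheory.AdjoinRoot
import Mathlib.RingTheory.Polynomial.UniqueFactorization
import Mathlib.RingTheory.Ideal.GoingUp
import Mathlib.RingTheory.Bezout
import Mathlib.FieldTheory.PerfectClosure

/-!
The ring of a root of a uniformizer, and separability of finite geometrically reduced extensions.
-/

set_option autoImplicit false
set_option linter.style.haveILetI false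
universe u

open Polynomial IsLocalRing

namespace Groth.L05.TameRoot

/-- A finite geometrically reduced field extension is separable. -/
theorem isSeparable_of_geomReduced (k E : Type u) [Field k] [Field E] [Algebra k E] [Module.Finite k E]
    [Algebra.IsGeometricallyReduced k E] : Algebra.IsSeparable k E := by
  refine ⟨fun x => ?_⟩
  have hint : IsIntegral k x := Algebra.IsIntegral.isIntegral x
  rcases CharP.exists' k with hz | ⟨p, hp, hpk⟩
  · exact (minpoly.irreducible hint).separable
  · rcases Polynomial.separable_or p (minpoly.irreducible hint) with h | ⟨-, g, hg, hgx⟩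
    · exact h
    exfalso
    have hli := Groth.L03.SepField.linearIndependent_pow p (fun i : Fin (minpoly k x).natDegree => x ^ (i : ℕ))
      (linearIndependent_pow x)
    have hzero : aeval (x ^ p) g = 0 := by
      rw [← expand_aeval, hgx, minpoly.aeval]
    have hd : (minpoly k x).natDegree = g.natDegree * p := by rw [← hgx, natDegree_expand]
    have hg0 : 0 < g.natDegree := hg.natDegree_pos
    have hlt : g.natDegree < (minpoly k x).natDegree := by
      rw [hd]; exact lt_mul_of_one_lt_right hg0 hp.out.one_lt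
    have h0 := Fintype.linearIndependent_iff.mp hli (fun i => g.coeff i) (by
      rw [Fin.sum_univ_eq_sum_range (fun i => g.coeff i • (x ^ i) ^ p)]
      rw [← hzero, aeval_eq_sum_range' hlt]
      exact Finset.sum_congr rfl fun i _ => by rw [← pow_mul, ← pow_mul, mul_comm p i]) ⟨g.natDegree, hlt⟩
    exact hg.ne_zero (leadingCoeff_eq_zero.mp h0)

/-- The data of the ring of an `n`-th root of a uniformizer. -/
theorem rootRing_data (A : Type u) [CommRing A] [IsDomain A] [IsDiscreteValuationRing A] (π : A)
    (hπ : Irreducible π) (n : ℕ) (hn0 : n ≠ 0) :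
    ∃ (_ : IsDomain (AdjoinRoot (X ^ n - C π : A[X]))) (_ : IsDiscreteValuationRing (AdjoinRoot (X ^ n - C π : A[X]))),
      Irreducible (AdjoinRoot.root (X ^ n - C π : A[X])) ∧
        Function.Injective (algebraMap A (AdjoinRoot (X ^ n - C π : A[X]))) ∧
        ∀ r, ∃ a : A, r - algebraMap A _ a ∈ Ideal.span {AdjoinRoot.root (X ^ n - C π : A[X])} := by
  classical
  set f : A[X] := X ^ n - C π with hf
  have hfm : f.Monic := monic_X_pow_sub_C π hn0
  have hdeg : f.natDegree = n := natDegree_X_pow_sub_C
  have hπm : maximalIdeal A = Ideal.span {π} := hπ.maximalIdeal_eq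
  have hpm : π ∈ maximalIdeal A := hπm ▸ Ideal.mem_span_singleton_self π
  have hE : f.IsEisensteinAt (maximalIdeal A) := by
    refine hfm.isEisensteinAt_of_mem_of_notMem (maximalIdeal.isMaximal A).ne_top (fun {i} hi => ?_) ?_
    · rw [hdeg] at hi
      rw [hf, coeff_sub, coeff_X_pow, if_neg hi.ne, zero_sub, coeff_C]
      split
      · exact neg_mem hpm
      · simp
    · rw [hf, coeff_sub, coeff_X_pow, if_neg hn0.symm, coeff_C_zero, zero_sub]
      intro h
      rw [neg_mem_iff, hπm, Ideal.span_singleton_pow, Ideal.mem_span_singleton] at h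
      obtain ⟨c, hc⟩ := h
      refine hπ.not_isUnit (IsUnit.of_mul_eq_one c (mul_left_cancel₀ hπ.ne_zero ?_))
      linear_combination -hc
  have hirr : Irreducible f := hE.irreducible (maximalIdeal.isMaximal A).isPrime hfm.isPrimitive (by rw [hdeg]; omega)
  haveI hdom : IsDomain (AdjoinRoot f) := AdjoinRoot.isDomain_of_prime hirr.prime
  haveI : Module.Finite A (AdjoinRoot f) := hfm.finite_adjoinRoot
  let x := AdjoinRoot.root f
  let al := algebraMap A (AdjoinRoot f)
  have hinj : Function.Injective al :=
    AdjoinRoot.of.injective_of_degree_ne_zero (by rw [degree_eq_natDegree hfm.ne_zero, hdeg]; exact_mod_cast hn0)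
  haveI : IsLocalHom al := RingHom.IsIntegral.isLocalHom (Algebra.IsIntegral.isIntegral (R := A)) hinj
  have hxn : x ^ n = al π := by
    have h := AdjoinRoot.eval₂_root f
    rw [hf, eval₂_sub, eval₂_pow, eval₂_X, eval₂_C, sub_eq_zero] at h
    exact h
  have hxu : ¬ IsUnit x := fun hu => hπ.not_isUnit (isUnit_of_map_unit al π (hxn ▸ hu.pow n))
  have hrep : ∀ r : AdjoinRoot f, ∃ a : A, r - al a ∈ Ideal.span ({x} : Set (AdjoinRoot f)) := fun r => by
    obtain ⟨g, rfl⟩ := AdjoinRoot.mk_surjective r
    refine ⟨g.coeff 0, ?_⟩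
    obtain ⟨q, hq⟩ := X_dvd_sub_C (p := g)
    rw [show al (g.coeff 0) = AdjoinRoot.mk f (C (g.coeff 0)) from rfl, ← map_sub, hq, map_mul, AdjoinRoot.mk_X]
    exact Ideal.mul_mem_right _ _ (Ideal.mem_span_singleton_self x)
  haveI hmax : (Ideal.span ({x} : Set (AdjoinRoot f))).IsMaximal := by
    refine Ideal.isMaximal_iff.mpr ⟨fun h1 => hxu (isUnit_of_dvd_one (Ideal.mem_span_singleton.mp h1)), fun M r hM hr hrM => ?_⟩
    obtain ⟨a, ha⟩ := hrep r
    have haM : al a ∈ M := by simpa using sub_mem hrM (hM ha)
    have hau : IsUnit a := by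
      rw [← notMem_maximalIdeal]
      intro ham
      rw [hπm, Ideal.mem_span_singleton] at ham
      obtain ⟨c, rfl⟩ := ham
      refine hr ?_
      have h2 : al (π * c) ∈ Ideal.span ({x} : Set (AdjoinRoot f)) := by
        rw [map_mul, ← hxn]
        exact Ideal.mul_mem_right _ _ (Ideal.pow_mem_of_mem _ (Ideal.mem_span_singleton_self x) n (by omega))
      simpa using add_mem ha h2
    exact (Ideal.eq_top_of_isUnit_mem M haM (hau.map al)) ▸ Submodule.mem_top
  haveI hloc : IsLocalRing (AdjoinRoot f) := by
    refine IsLocalRing.of_unique_max_ideal ⟨_, hmax, fun M hM => ?_⟩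
    refine (hmax.eq_of_le hM.ne_top ?_).symm
    haveI := hM
    haveI : (M.comap al).IsMaximal := Ideal.isMaximal_comap_of_isIntegral_of_isMaximal M
    have hπM : al π ∈ M := by
      rw [← Ideal.mem_comap, IsLocalRing.eq_maximalIdeal (I := M.comap al) inferInstance]
      exact hpm
    rw [Ideal.span_singleton_le_iff_mem]
    exact hM.isPrime.mem_of_pow_mem n (hxn ▸ hπM)
  have hm : maximalIdeal (AdjoinRoot f) = Ideal.span {x} := (IsLocalRing.eq_maximalIdeal hmax).symm
  have hx0 : x ≠ 0 := fun h0 => hπ.ne_zero (hinj (by rw [← hxn, h0, zero_pow hn0, map_zero]))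
  have hnf : ¬ IsField (AdjoinRoot f) := fun hF => hx0 (by
    have := (IsLocalRing.isField_iff_maximalIdeal_eq.mp hF)
    rw [hm, Ideal.span_singleton_eq_bot] at this
    exact this)
  haveI : IsNoetherianRing (AdjoinRoot f) := IsNoetherianRing.of_finite A (AdjoinRoot f)
  haveI hdvr : IsDiscreteValuationRing (AdjoinRoot f) :=
    ((IsDiscreteValuationRing.TFAE (AdjoinRoot f) hnf).out 4 0 rfl rfl).mp ⟨⟨x, hm⟩⟩
  exact ⟨hdom, hdvr, (IsDiscreteValuationRing.irreducible_iff_uniformizer x).mpr hm, hinj, hrep⟩

end Groth.L05.TameRoot
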