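import Groth.Agent.L05.TameRoot.RootRing
import Groth.Agent.L05.Abhyankar.LocalData
import Groth.Agent.L05.Abhyankar.RootAlgebra
import Groth.Agent.L05.TameTower.Main
import Mathlib.FieldTheory.SeparableClosure
import Mathlib.FieldTheory.IntermediateField.Adjoin.Basic

/-!
Valuation rings of the fields generated by a root of a uniformizer, or by a root of a unit.
-/

set_option autoImplicit false
set_option linter.style.haveILetI false
set_option maxSynthPendingDepth 3
universe u

open Polynomial IsLocalRing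

namespace Groth.L05.TameRoot

variable (A K : Type u) {E : Type u} [CommRing A] [IsDomain A] [IsDiscreteValuationRing A] [Field K] [Algebra A K]
  [IsFractionRing A K] [Field E] [Algebra K E] [FiniteDimensional K E] [Algebra A E] [IsScalarTower A K E]
  (W : ValuationSubring E) [Algebra A W] [IsScalarTower A W E] [IsLocalHom (algebraMap A W)]

omit [IsDomain A] [IsDiscreteValuationRing A] [IsLocalHom (algebraMap A W)] in
theorem mem_of_pow {r : E} {n : ℕ} (hn : n ≠ 0) {a : A} (hr : r ^ n = algebraMap A E a) : r ∈ W := by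
  have h : IsIntegral A (r ^ n) := hr ▸ isIntegral_algebraMap
  obtain ⟨y, hy⟩ := IsIntegrallyClosedIn.isIntegral_iff.mp (((IsIntegral.of_pow (Nat.pos_of_ne_zero hn) h)).tower_top (A := W))
  exact hy ▸ y.2

omit [IsDomain A] [IsDiscreteValuationRing A] [IsLocalHom (algebraMap A W)] in
theorem mem_closure_range {R : Type u} [CommRing R] (ψ : R →+* W) (ofR : A →+* R) (hψ : ∀ a, ψ (ofR a) = algebraMap A W a)
    (ρ : R) {r : E} (hρ : (ψ ρ : E) = r) (hgen : IntermediateField.adjoin K {r} = ⊤) (x : E) :
    x ∈ Subfield.closure ((W.subtype.comp ψ).range : Set E) := by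
  have hx : x ∈ IntermediateField.adjoin K {r} := hgen ▸ IntermediateField.mem_top
  rw [← IntermediateField.mem_toSubfield, IntermediateField.adjoin_toSubfield] at hx
  refine (Subfield.closure_le.mpr ?_) hx
  rintro y (⟨k, rfl⟩ | hy)
  · obtain ⟨a, b, -, rfl⟩ := IsFractionRing.div_surjective (A := A) k
    have key : ∀ a : A, algebraMap K E (algebraMap A K a) ∈ Subfield.closure ((W.subtype.comp ψ).range : Set E) :=
      fun a => Subfield.subset_closure ⟨ofR a, by
        show (ψ (ofR a) : E) = _
        rw [hψ, ← IsScalarTower.algebraMap_apply A K E]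
        exact (IsScalarTower.algebraMap_apply A W E a).symm⟩
    rw [map_div₀]
    exact div_mem (key a) (key b)
  · rw [Set.mem_singleton_iff] at hy
    exact Subfield.subset_closure ⟨ρ, hρ.trans hy.symm⟩

include K in
/-- The valuation rings of a field generated by a root of a uniformizer. -/
theorem uniformizer_root_facts {π : A} (hπ : Irreducible π) {n : ℕ} (hn : n ≠ 0) {r : E}
    (hr : r ^ n = algebraMap A E π) (hgen : IntermediateField.adjoin K {r} = ⊤) :
    ∃ y : W, (y : E) = r ∧ maximalIdeal W = Ideal.span {y} ∧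
      Function.Surjective (fun a => residue W (algebraMap A W a)) ∧
      Ideal.ramificationIdx' (maximalIdeal A) (maximalIdeal W) = n := by
  classical
  obtain ⟨_, _, hx, -, hrep⟩ := rootRing_data A π hπ n hn
  obtain ⟨hdW, hsepW⟩ := Groth.L05.SepResidueSol.isDiscreteValuationRing_of_finite A K W
  let y : W := ⟨r, mem_of_pow A W hn hr⟩
  have hy : y ^ n = algebraMap A W π := Subtype.ext (by
    rw [SubmonoidClass.coe_pow]; exact hr.trans (IsScalarTower.algebraMap_apply A W E π))
  have hev : eval₂ (algebraMap A W) y (X ^ n - C π) = 0 := by rw [eval₂_sub, eval₂_X_pow, eval₂_C, hy, sub_self]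
  let ψ : AdjoinRoot (X ^ n - C π : A[X]) →+* W := AdjoinRoot.lift (algebraMap A W) y hev
  have hψof : ∀ a, ψ (algebraMap A _ a) = algebraMap A W a := fun a => AdjoinRoot.lift_of hev
  have hψroot : ψ (AdjoinRoot.root _) = y := AdjoinRoot.lift_root hev
  have hyu : ¬ IsUnit y := fun h => hπ.not_isUnit ((isUnit_map_iff (algebraMap A W) π).mp (hy ▸ h.pow n))
  have hπ0 : algebraMap A W π ≠ 0 := fun h => hπ.ne_zero ((algebraMap K E).injective.comp
    (IsFractionRing.injective A K) (by
      show algebraMap K E (algebraMap A K π) = algebraMap K E (algebraMap A K 0)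
      rw [← IsScalarTower.algebraMap_apply, map_zero, map_zero, IsScalarTower.algebraMap_apply A W E, h, map_zero]))
  have hy0 : y ≠ 0 := fun h => hπ0 (by rw [← hy, h, zero_pow hn])
  let P := AdjoinRoot.root (X ^ n - C π : A[X])
  haveI : IsSemisimpleRing (AdjoinRoot (X ^ n - C π : A[X]) ⧸ Ideal.span {P}) := by
    let g : ResidueField A →+* AdjoinRoot (X ^ n - C π : A[X]) ⧸ Ideal.span {P} :=
      Ideal.Quotient.lift (maximalIdeal A) ((Ideal.Quotient.mk (Ideal.span {P})).comp (algebraMap A _)) ?_
    refine @RingHom.isSemisimpleRing_of_surjective (ResidueField A) _ _ _ g (fun z => ?_) inferInstance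
    rotate_left
    · intro a ha
      rw [hπ.maximalIdeal_eq, Ideal.mem_span_singleton] at ha
      obtain ⟨c, rfl⟩ := ha
      refine Ideal.Quotient.eq_zero_iff_mem.mpr ?_
      rw [map_mul]
      refine Ideal.mul_mem_right _ _ (Ideal.mem_span_singleton.mpr ?_)
      have h := AdjoinRoot.eval₂_root (X ^ n - C π : A[X])
      rw [eval₂_sub, eval₂_X_pow, eval₂_C, sub_eq_zero] at h
      exact h ▸ dvd_pow_self P hn
    · obtain ⟨z, rfl⟩ := Ideal.Quotient.mk_surjective z
      obtain ⟨a, ha⟩ := hrep z
      exact ⟨residue A a, (Ideal.Quotient.eq.mpr ha).symm⟩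
  obtain ⟨hmax, hres⟩ := Groth.L05.Abhyankar.local_data W ψ P (by rw [hψroot]; exact hy0) (by rw [hψroot]; exact hyu)
    (fun x hx => by
      obtain ⟨N, hN⟩ := hsepW hπ x hx
      exact ⟨n * N, by rwa [hψroot, pow_mul, hy]⟩)
    (mem_closure_range A K W ψ (algebraMap A _) hψof P (congrArg Subtype.val hψroot) hgen)
  rw [hψroot] at hmax
  refine ⟨y, rfl, hmax, fun z => ?_, ?_⟩
  · have hrange : ∀ t, ∃ a : A, residue W (ψ t) = residue W (algebraMap A W a) := fun t => by
      obtain ⟨a, ha⟩ := hrep t
      refine ⟨a, ?_⟩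
      rw [← sub_eq_zero, ← map_sub, residue_eq_zero_iff, hmax, ← hψof, ← map_sub, ← hψroot, Ideal.mem_span_singleton]
      exact map_dvd ψ (Ideal.mem_span_singleton.mp ha)
    obtain ⟨t, s, hs, hts⟩ := hres z
    obtain ⟨a, ha⟩ := hrange t
    obtain ⟨b, hb⟩ := hrange s
    rw [hb] at hs hts
    rw [ha] at hts
    have hbu : IsUnit b := by
      by_contra h
      exact hs ((residue_eq_zero_iff _).mpr ((mem_maximalIdeal _).mpr fun hu => h ((isUnit_map_iff _ b).mp hu)))
    obtain ⟨u, rfl⟩ := hbu
    refine ⟨a * (u⁻¹ : Aˣ), ?_⟩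
    show residue W (algebraMap A W (a * ((u⁻¹ : Aˣ) : A))) = z
    rw [map_mul, map_mul, ← hts, mul_assoc, ← map_mul, ← map_mul, Units.mul_inv, map_one, map_one, mul_one]
  · haveI := hdW
    have hmap : (maximalIdeal A).map (algebraMap A W) = maximalIdeal W ^ n := by
      rw [hπ.maximalIdeal_eq, Ideal.map_span, Set.image_singleton, hmax, Ideal.span_singleton_pow, hy]
    exact Ideal.ramificationIdx'_spec hmap.le (fun h => (Ideal.pow_succ_lt_pow
      (IsDiscreteValuationRing.not_a_field W) n).not_ge (hmap ▸ h))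

include K in
/-- The valuation rings of a field generated by a root of a unit of index prime to the residue characteristic. -/
theorem unit_root_facts {π : A} (hπ : Irreducible π) {n : ℕ} (hn : (n : ResidueField A) ≠ 0) {a₀ : A} (ha₀ : IsUnit a₀)
    {r : E} (hr : r ^ n = algebraMap A E a₀) (hgen : IntermediateField.adjoin K {r} = ⊤) :
    (maximalIdeal A).map (algebraMap A W) = maximalIdeal W ∧
      Algebra.IsSeparable (ResidueField A) (ResidueField W) := by
  classical
  have hn0 : n ≠ 0 := fun h => hn (by rw [h, Nat.cast_zero])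
  obtain ⟨hdW, hsepW⟩ := Groth.L05.SepResidueSol.isDiscreteValuationRing_of_finite A K W
  let y : W := ⟨r, mem_of_pow A W hn0 hr⟩
  have hy : y ^ n = algebraMap A W a₀ := Subtype.ext (by
    rw [SubmonoidClass.coe_pow]; exact hr.trans (IsScalarTower.algebraMap_apply A W E a₀))
  let f : A[X] := X ^ n - C a₀
  have hev : eval₂ (algebraMap A W) y f = 0 := by rw [eval₂_sub, eval₂_X_pow, eval₂_C, hy, sub_self]
  let ψ : AdjoinRoot f →+* W := AdjoinRoot.lift (algebraMap A W) y hev
  have hψof : ∀ a, ψ (algebraMap A _ a) = algebraMap A W a := fun a => AdjoinRoot.lift_of hev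
  have hψroot : ψ (AdjoinRoot.root _) = y := AdjoinRoot.lift_root hev
  let P := algebraMap A (AdjoinRoot f) π
  have hπu : ¬ IsUnit (algebraMap A W π) := fun h => hπ.not_isUnit ((isUnit_map_iff _ π).mp h)
  have hπ0 : algebraMap A W π ≠ 0 := fun h => hπ.ne_zero ((algebraMap K E).injective.comp
    (IsFractionRing.injective A K) (by
      show algebraMap K E (algebraMap A K π) = algebraMap K E (algebraMap A K 0)
      rw [← IsScalarTower.algebraMap_apply, map_zero, map_zero, IsScalarTower.algebraMap_apply A W E, h, map_zero]))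
  let g : ResidueField A →+* AdjoinRoot f ⧸ Ideal.span {P} :=
    Ideal.Quotient.lift (maximalIdeal A) ((Ideal.Quotient.mk (Ideal.span {P})).comp (algebraMap A _)) fun a ha => by
      rw [hπ.maximalIdeal_eq, Ideal.mem_span_singleton] at ha
      obtain ⟨c, rfl⟩ := ha
      refine Ideal.Quotient.eq_zero_iff_mem.mpr ?_
      rw [map_mul]
      exact Ideal.mul_mem_right _ _ (Ideal.mem_span_singleton_self _)
  let fb : (ResidueField A)[X] := X ^ n - C (residue A a₀)
  haveI : IsSemisimpleRing (AdjoinRoot fb) := by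
    have hc : IsUnit (residue A a₀) := ha₀.map _
    haveI : _root_.IsReduced (AdjoinRoot fb) :=
      Groth.L05.Abhyankar.isReduced_adjoinRoot (isUnit_iff_ne_zero.mpr hn) hc
    haveI : Module.Finite (ResidueField A) (AdjoinRoot fb) :=
      (AdjoinRoot.powerBasis' (monic_X_pow_sub_C _ hn0)).finite
    haveI : IsArtinianRing (AdjoinRoot fb) := IsArtinianRing.of_finite (ResidueField A) _
    exact IsArtinianRing.isSemisimpleRing_of_isReduced _
  have hx : eval₂ g (Ideal.Quotient.mk _ (AdjoinRoot.root f)) fb = 0 := by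
    rw [eval₂_sub, eval₂_X_pow, eval₂_C]
    have h := congrArg (Ideal.Quotient.mk (Ideal.span {P})) (AdjoinRoot.eval₂_root f)
    rw [eval₂_sub, eval₂_X_pow, eval₂_C, map_sub, map_pow, map_zero] at h
    exact h
  haveI : IsSemisimpleRing (AdjoinRoot f ⧸ Ideal.span {P}) := by
    refine RingHom.isSemisimpleRing_of_surjective (AdjoinRoot.lift g _ hx) fun z => ?_
    obtain ⟨z, rfl⟩ := Ideal.Quotient.mk_surjective z
    obtain ⟨q, rfl⟩ := AdjoinRoot.mk_surjective z
    show _ ∈ (AdjoinRoot.lift g _ hx).range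
    induction q using Polynomial.induction_on' with
    | add a b ha hb => rw [map_add, map_add]; exact add_mem ha hb
    | monomial m a =>
      rw [← C_mul_X_pow_eq_monomial, map_mul, map_mul, map_pow, map_pow]
      have hroot : Ideal.Quotient.mk (Ideal.span {P}) (AdjoinRoot.mk f X) ∈ (AdjoinRoot.lift g _ hx).range :=
        ⟨AdjoinRoot.root _, AdjoinRoot.lift_root hx⟩
      exact mul_mem ⟨AdjoinRoot.of _ (residue A a), AdjoinRoot.lift_of hx⟩ (pow_mem hroot m)
  obtain ⟨hmax, hres⟩ := Groth.L05.Abhyankar.local_data W ψ P (by rw [hψof]; exact hπ0) (by rw [hψof]; exact hπu)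
    (fun x hx => by
      obtain ⟨N, hN⟩ := hsepW hπ x hx
      exact ⟨N, by rwa [hψof]⟩)
    (mem_closure_range A K W ψ (algebraMap A _) hψof (AdjoinRoot.root f) (congrArg Subtype.val hψroot) hgen)
  rw [hψof] at hmax
  refine ⟨by rw [hπ.maximalIdeal_eq, Ideal.map_span, Set.image_singleton, hmax], ⟨fun z => ?_⟩⟩
  rw [← mem_separableClosure_iff]
  let Sc := separableClosure (ResidueField A) (ResidueField W)
  have hθ : residue W y ∈ Sc := by
    rw [mem_separableClosure_iff]
    refine (separable_X_pow_sub_C (residue A a₀) hn (ha₀.map _).ne_zero).of_dvd (minpoly.dvd _ _ ?_)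
    rw [map_sub, map_pow, aeval_X, aeval_C, ← map_pow, hy, sub_eq_zero]
    rfl
  have hrange : ∀ t, residue W (ψ t) ∈ Sc := fun t => by
    obtain ⟨q, rfl⟩ := AdjoinRoot.mk_surjective t
    show residue W (AdjoinRoot.lift (algebraMap A W) y hev (AdjoinRoot.mk f q)) ∈ Sc
    rw [AdjoinRoot.lift_mk]
    induction q using Polynomial.induction_on' with
    | add a b ha hb => rw [eval₂_add, map_add]; exact add_mem ha hb
    | monomial m a =>
      rw [eval₂_monomial, map_mul, map_pow]
      refine mul_mem ?_ (pow_mem hθ m)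
      exact Sc.algebraMap_mem (residue A a)
  obtain ⟨t, s, hs, hts⟩ := hres z
  have hz : z = residue W (ψ t) / residue W (ψ s) := by rw [← hts, mul_div_assoc, div_self hs, mul_one]
  rw [hz]
  exact div_mem (hrange t) (hrange s)

end Groth.L05.TameRoot
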