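import Groth.Agent.L05.TameRoot.Main
import Groth.Agent.L05.UnramBaseChange.Main

/-!
Unramified and tamely ramified extensions under change of the discrete valuation ring.
-/

set_option autoImplicit false
set_option linter.style.haveILetI false
set_option maxSynthPendingDepth 3
universe u

open Polynomial IsLocalRing EtRam
open scoped TensorProduct

namespace Groth.L05.TameRoot

/-- Unramified extensions with discrete valuation rings are tame. -/
theorem tame_of_unramified' {A : Type u} [CommRing A] [IsLocalRing A] {L : Type u} [Field L] (g : A →+* L)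
    (hd : ∀ V : ValuationSubring L, Dominates A g V → IsDiscreteValuationRing V)
    (h : IsUnramifiedExt A g) : IsTamelyRamified A g := by
  intro V hV
  letI : Algebra A V := (RingHom.codRestrict g V hV.1).toAlgebra
  intro _
  haveI := hd V hV
  obtain ⟨hw, hs⟩ := h V hV
  refine ⟨hs, fun p hp _ hdv => ?_⟩
  rw [idx_eq_one hw] at hdv
  exact hp.one_lt.ne' (Nat.dvd_one.mp hdv)

/-- A compositum of an unramified extension is unramified. -/
theorem unramified_compositum {A B K L K' : Type u} [CommRing A] [IsDomain A]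
    [IsDiscreteValuationRing A] [CommRing B] [IsDomain B] [IsDiscreteValuationRing B] [Algebra A B]
    [IsLocalHom (algebraMap A B)]
    [Field K] [Field L] [Field K'] [Algebra A K] [IsFractionRing A K] [Algebra B L] [IsFractionRing B L]
    [Algebra K L] [Algebra A L] [IsScalarTower A K L] [IsScalarTower A B L]
    [Algebra K K'] [FiniteDimensional K K'] [Algebra.IsSeparable K K']
    (h : IsUnramifiedExt A ((algebraMap K K').comp (algebraMap A K)))
    (M : Type u) [Field M] [Algebra K M] [Algebra L M] [Algebra K' M] [IsScalarTower K L M] [IsScalarTower K K' M]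
    (hgen : Algebra.adjoin L (Set.range (algebraMap K' M)) = ⊤) :
    IsUnramifiedExt B ((algebraMap L M).comp (algebraMap B L)) := by
  let q : K' ⊗[K] L →ₐ[K] M :=
    Algebra.TensorProduct.lift (IsScalarTower.toAlgHom K K' M) (IsScalarTower.toAlgHom K L M) fun _ _ => Commute.all _ _
  letI : Algebra (K' ⊗[K] L) M := q.toRingHom.toAlgebra
  have hq : Function.Surjective (algebraMap (K' ⊗[K] L) M) := by
    intro x
    have hx : x ∈ Algebra.adjoin L (Set.range (algebraMap K' M)) := hgen ▸ Algebra.mem_top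
    show x ∈ q.toRingHom.range
    induction hx using Algebra.adjoin_induction with
    | mem y hy => obtain ⟨z, rfl⟩ := hy; exact ⟨z ⊗ₜ 1, by simp [q]⟩
    | algebraMap l => exact ⟨1 ⊗ₜ l, by simp [q]⟩
    | add y z _ _ hy hz => exact add_mem hy hz
    | mul y z _ _ hy hz => exact mul_mem hy hz
  have h1 := Groth.L05.UnramBaseChange.isUnramifiedExt_factor A B K L K' h M hq
  have e : ((algebraMap (K' ⊗[K] L) M).comp
      ((Algebra.TensorProduct.includeRight : L →ₐ[K] K' ⊗[K] L).toRingHom.comp (algebraMap B L))) =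
      (algebraMap L M).comp (algebraMap B L) := RingHom.ext fun b => by
    show q (1 ⊗ₜ algebraMap B L b) = _
    simp [q]
  rwa [e] at h1

/-- The last step: over a valuation ring containing a root of the uniformizer the compositum is tame. -/
theorem tame_of_root {A K : Type u} [CommRing A] [IsDomain A] [IsDiscreteValuationRing A] [Field K] [Algebra A K]
    [IsFractionRing A K] {π : A} (hπ : Irreducible π) {e : ℕ} (he0 : e ≠ 0)
    [IsDomain (AdjoinRoot (X ^ e - C π : A[X]))] [hdvr : IsDiscreteValuationRing (AdjoinRoot (X ^ e - C π : A[X]))]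
    (hxirr : Irreducible (AdjoinRoot.root (X ^ e - C π : A[X])))
    {L'' : Type u} [Field L''] [Algebra K L''] [FiniteDimensional K L''] [Algebra.IsSeparable K L'']
    [Algebra (AdjoinRoot (X ^ e - C π : A[X])) L'']
    (hof : (algebraMap (AdjoinRoot (X ^ e - C π : A[X])) L'').comp (AdjoinRoot.of (X ^ e - C π)) =
      (algebraMap K L'').comp (algebraMap A K))
    (hun : IsUnramifiedExt (AdjoinRoot (X ^ e - C π : A[X])) (algebraMap (AdjoinRoot (X ^ e - C π : A[X])) L''))
    {E₁ : Type u} [Field E₁] [Algebra K E₁] (Z : ValuationSubring E₁) [IsDiscreteValuationRing Z]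
    [Algebra A Z] [IsLocalHom (algebraMap A Z)]
    (hAZ : ∀ a, ((algebraMap A Z a : Z) : E₁) = algebraMap K E₁ (algebraMap A K a))
    {M₂ : Type u} [Field M₂] [Algebra E₁ M₂] [Algebra K M₂] [IsScalarTower K E₁ M₂] [Algebra L'' M₂]
    [IsScalarTower K L'' M₂] [FiniteDimensional E₁ M₂] [Algebra.IsSeparable E₁ M₂]
    (rE : E₁) (hrE : rE ^ e = algebraMap K E₁ (algebraMap A K π))
    (hgen₂ : Algebra.adjoin E₁ (Set.range (algebraMap L'' M₂)) = ⊤)
    (hcompat : algebraMap E₁ M₂ rE =
      algebraMap L'' M₂ (algebraMap (AdjoinRoot (X ^ e - C π : A[X])) L'' (AdjoinRoot.root _))) :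
    IsTamelyRamified Z ((algebraMap E₁ M₂).comp Z.subtype) := by
  let Ae := AdjoinRoot (X ^ e - C π : A[X])
  letI : Algebra A E₁ := ((algebraMap K E₁).comp (algebraMap A K)).toAlgebra
  haveI : IsScalarTower A Z E₁ := IsScalarTower.of_algebraMap_eq fun a => (hAZ a).symm
  let rZ : Z := ⟨rE, mem_of_pow A Z he0 (a := π) hrE⟩
  have hev : eval₂ (algebraMap A Z) rZ (X ^ e - C π) = 0 := by
    rw [eval₂_sub, eval₂_X_pow, eval₂_C, sub_eq_zero]
    exact Subtype.ext (by rw [SubmonoidClass.coe_pow, hAZ]; exact hrE)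
  let jZ : Ae →+* Z := AdjoinRoot.lift (algebraMap A Z) rZ hev
  letI : Algebra Ae Z := jZ.toAlgebra
  have hjroot : algebraMap Ae Z (AdjoinRoot.root _) = rZ := AdjoinRoot.lift_root hev
  have hrpow : rZ ^ e = algebraMap A Z π := Subtype.ext (by rw [SubmonoidClass.coe_pow, hAZ]; exact hrE)
  haveI : IsLocalHom (algebraMap Ae Z) := by
    refine ⟨fun t ht => ?_⟩
    by_contra hu
    have ht' : t ∈ Ideal.span {AdjoinRoot.root (X ^ e - C π : A[X])} := hxirr.maximalIdeal_eq ▸ (mem_maximalIdeal t).mpr hu
    obtain ⟨c, rfl⟩ := Ideal.mem_span_singleton.mp ht'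
    rw [map_mul, hjroot] at ht
    have h2 := (isUnit_of_mul_isUnit_left ht).pow e
    rw [hrpow] at h2
    exact hπ.not_isUnit (isUnit_of_map_unit (algebraMap A Z) π h2)
  letI : Algebra Ae E₁ := (Z.subtype.comp jZ).toAlgebra
  haveI : IsScalarTower Ae Z E₁ := IsScalarTower.of_algebraMap_eq fun _ => rfl
  have hr0 : rE ≠ 0 := fun h0 => by
    rw [h0, zero_pow he0] at hrE
    exact hπ.ne_zero (IsFractionRing.injective A K ((algebraMap K E₁).injective (by rw [← hrE, map_zero, map_zero])))
  have hrootE : algebraMap Ae E₁ (AdjoinRoot.root _) = rE := congrArg Subtype.val hjroot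
  have hinjAe : ∀ {F : Type u} [Field F] (φ : Ae →+* F), φ (AdjoinRoot.root _) ≠ 0 → Function.Injective φ :=
    fun {F} _ φ hφ => by
      rw [injective_iff_map_eq_zero]
      intro t ht
      by_contra h0
      obtain ⟨n, w, rfl⟩ := IsDiscreteValuationRing.eq_unit_mul_pow_irreducible h0 hxirr
      rw [map_mul, map_pow] at ht
      exact mul_ne_zero ((w.isUnit.map φ).ne_zero) (pow_ne_zero _ hφ) ht
  have hiE : Function.Injective (algebraMap Ae E₁) := hinjAe _ (by rw [hrootE]; exact hr0)
  have hiL : Function.Injective (algebraMap Ae L'') := hinjAe _ fun h0 => hr0 ((algebraMap E₁ M₂).injective (by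
    rw [hcompat, h0, map_zero, map_zero]))
  let Ke := FractionRing Ae
  letI : Algebra Ke E₁ := (IsFractionRing.lift hiE).toAlgebra
  haveI : IsScalarTower Ae Ke E₁ := IsScalarTower.of_algebraMap_eq fun t => (IsFractionRing.lift_algebraMap hiE t).symm
  letI : Algebra Ke L'' := (IsFractionRing.lift hiL).toAlgebra
  haveI : IsScalarTower Ae Ke L'' := IsScalarTower.of_algebraMap_eq fun t => (IsFractionRing.lift_algebraMap hiL t).symm
  obtain ⟨_, _, -, hinjA, -⟩ := rootRing_data A π hπ e he0
  have hiK : Function.Injective ((algebraMap Ae Ke).comp (algebraMap A Ae)) :=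
    (IsFractionRing.injective Ae Ke).comp hinjA
  letI : Algebra K Ke := (IsFractionRing.lift hiK).toAlgebra
  haveI : IsScalarTower K Ke L'' := IsScalarTower.of_algebraMap_eq' (IsLocalization.ringHom_ext (nonZeroDivisors A)
    (RingHom.ext fun a => by
      show algebraMap K L'' (algebraMap A K a) = algebraMap Ke L'' (IsFractionRing.lift hiK (algebraMap A K a))
      rw [IsFractionRing.lift_algebraMap]
      show _ = algebraMap Ke L'' (algebraMap Ae Ke (AdjoinRoot.of _ a))
      rw [← IsScalarTower.algebraMap_apply Ae Ke L'']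
      exact (RingHom.congr_fun hof a).symm))
  haveI : FiniteDimensional Ke L'' := Module.Finite.of_restrictScalars_finite K Ke L''
  haveI : Algebra.IsSeparable Ke L'' := Algebra.isSeparable_tower_top_of_isSeparable K Ke L''
  letI : Algebra Ke M₂ := ((algebraMap E₁ M₂).comp (algebraMap Ke E₁)).toAlgebra
  haveI : IsScalarTower Ke E₁ M₂ := IsScalarTower.of_algebraMap_eq fun _ => rfl
  haveI : IsScalarTower Ke L'' M₂ := IsScalarTower.of_algebraMap_eq' (IsLocalization.ringHom_ext (nonZeroDivisors Ae) (by
    refine Ideal.Quotient.ringHom_ext (Polynomial.ringHom_ext (fun a => ?_) ?_)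
    · show algebraMap E₁ M₂ (algebraMap Ke E₁ (algebraMap Ae Ke (AdjoinRoot.of _ a))) =
        algebraMap L'' M₂ (algebraMap Ke L'' (algebraMap Ae Ke (AdjoinRoot.of _ a)))
      rw [← IsScalarTower.algebraMap_apply Ae Ke E₁, ← IsScalarTower.algebraMap_apply Ae Ke L'',
        show algebraMap Ae L'' (AdjoinRoot.of _ a) = algebraMap K L'' (algebraMap A K a) from RingHom.congr_fun hof a,
        ← IsScalarTower.algebraMap_apply K L'' M₂, IsScalarTower.algebraMap_apply K E₁ M₂]
      refine congrArg (algebraMap E₁ M₂) ?_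
      show ((AdjoinRoot.lift (algebraMap A Z) rZ hev (AdjoinRoot.of _ a) : Z) : E₁) = _
      rw [AdjoinRoot.lift_of]
      exact hAZ a
    · show algebraMap E₁ M₂ (algebraMap Ke E₁ (algebraMap Ae Ke (AdjoinRoot.root _))) =
        algebraMap L'' M₂ (algebraMap Ke L'' (algebraMap Ae Ke (AdjoinRoot.root _)))
      rw [← IsScalarTower.algebraMap_apply Ae Ke E₁, ← IsScalarTower.algebraMap_apply Ae Ke L'', hrootE, hcompat]))
  have hu2 : IsUnramifiedExt Z ((algebraMap E₁ M₂).comp (algebraMap Z E₁)) :=
    unramified_compositum (A := Ae) (K := Ke) (K' := L'')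
      (by rw [← IsScalarTower.algebraMap_eq]; exact hun) M₂ hgen₂
  exact tame_of_unramified' _
    (fun W hW => Groth.L05.TameTower.isDiscreteValuationRing_of_dominates Z E₁ M₂ W hW) hu2

/-- Adjoining a root of a unit, then a root of a uniformizer, is tame. -/
theorem root_tower_tame {B L E₀ E₁ : Type u} [CommRing B] [IsDomain B] [IsDiscreteValuationRing B] [Field L]
    [Algebra B L] [IsFractionRing B L] [Field E₀] [Field E₁] [Algebra L E₀] [Algebra L E₁] [Algebra E₀ E₁]
    [IsScalarTower L E₀ E₁] [FiniteDimensional L E₀] [FiniteDimensional E₀ E₁] [FiniteDimensional L E₁]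
    [Algebra.IsSeparable L E₀] [Algebra.IsSeparable L E₁] [Algebra B E₀] [IsScalarTower B L E₀]
    {ρ : B} (hρ : Irreducible ρ) {e : ℕ} (he0 : e ≠ 0) (hkB : (e : ResidueField B) ≠ 0) (u : Bˣ)
    (v : E₀) (hv : v ^ e = algebraMap B E₀ u) (hgv : IntermediateField.adjoin L {v} = ⊤)
    (ρ' : E₁) (hρ' : ρ' ^ e = algebraMap E₀ E₁ (algebraMap B E₀ ρ)) (hgρ : IntermediateField.adjoin E₀ {ρ'} = ⊤) :
    IsTamelyRamified B ((algebraMap L E₁).comp (algebraMap B L)) := by
  have hfacts₀ : ∀ (V : ValuationSubring E₀) (hV : Dominates B ((algebraMap L E₀).comp (algebraMap B L)) V),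
      letI : Algebra B V := (RingHom.codRestrict ((algebraMap L E₀).comp (algebraMap B L)) V hV.1).toAlgebra
      ∀ [IsLocalHom (algebraMap B V)],
      (maximalIdeal B).map (algebraMap B V) = maximalIdeal V ∧
        Algebra.IsSeparable (ResidueField B) (ResidueField V) := by
    intro V hV
    letI : Algebra B V := (RingHom.codRestrict ((algebraMap L E₀).comp (algebraMap B L)) V hV.1).toAlgebra
    intro _
    haveI : IsScalarTower B V E₀ := IsScalarTower.of_algebraMap_eq fun b => IsScalarTower.algebraMap_apply B L E₀ b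
    exact unit_root_facts B L V hρ hkB u.isUnit (r := v) hv hgv
  refine (Groth.L05.TameTower.top_result B L E₀ E₁).1 ?_ ?_
  · refine tame_of_unramified' _ ?_ hfacts₀
    exact fun V hV => Groth.L05.TameTower.isDiscreteValuationRing_of_dominates B L E₀ V hV
  · intro V hV W hW
    letI : Algebra V W := (RingHom.codRestrict ((algebraMap E₀ E₁).comp V.subtype) W hW.1).toAlgebra
    intro _
    letI : Algebra B V := (RingHom.codRestrict ((algebraMap L E₀).comp (algebraMap B L)) V hV.1).toAlgebra
    haveI : IsScalarTower B V E₀ := IsScalarTower.of_algebraMap_eq fun b => IsScalarTower.algebraMap_apply B L E₀ b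
    haveI : IsLocalHom (algebraMap B V) := Groth.L05.TameTower.isLocalHom_codRestrict _ V hV
    haveI := Groth.L05.TameTower.isDiscreteValuationRing_of_dominates B L E₀ V hV
    obtain ⟨hmap, hsV⟩ := hfacts₀ V hV
    have hρV : Irreducible (algebraMap B V ρ) := by
      refine (IsDiscreteValuationRing.irreducible_iff_uniformizer _).mpr (hmap.symm.trans ?_)
      refine (congrArg (Ideal.map (algebraMap B V)) hρ.maximalIdeal_eq).trans ?_
      rw [Ideal.map_span, Set.image_singleton]
    haveI : IsScalarTower V W E₁ := IsScalarTower.of_algebraMap_eq fun _ => rfl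
    obtain ⟨y, hy, hmax₁, hres₁, hidx⟩ := uniformizer_root_facts V E₀ W hρV he0 (r := ρ')
      (by rw [hρ', IsScalarTower.algebraMap_apply B V E₀]; rfl) hgρ
    refine ⟨⟨fun z => ?_⟩, fun p hp hc hd => ?_⟩
    · obtain ⟨a, rfl⟩ := hres₁ z
      exact isSeparable_algebraMap (residue V a)
    · haveI := hc
      rw [hidx] at hd
      refine hkB ((_root_.map_eq_zero (algebraMap (ResidueField B) (ResidueField V))).mp ?_)
      rw [map_natCast]
      exact (CharP.cast_eq_zero_iff _ p e).mpr hd

/-- A compositum of a tamely ramified extension is tamely ramified. -/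
theorem tame_compositum_aux {A B K L K' : Type u} [CommRing A] [IsDomain A]
    [IsDiscreteValuationRing A] [CommRing B] [IsDomain B] [IsDiscreteValuationRing B] [Algebra A B]
    [IsLocalHom (algebraMap A B)]
    [Field K] [Field L] [Field K'] [Algebra A K] [IsFractionRing A K] [Algebra B L] [IsFractionRing B L]
    [Algebra K L] [Algebra A L] [IsScalarTower A K L] [IsScalarTower A B L]
    [Algebra K K'] [FiniteDimensional K K'] [Algebra.IsSeparable K K']
    (h : IsTamelyRamified A ((algebraMap K K').comp (algebraMap A K)))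
    (M : Type u) [Field M] [Algebra K M] [Algebra L M] [Algebra K' M] [IsScalarTower K L M] [IsScalarTower K K' M]
    (hgen : Algebra.adjoin L (Set.range (algebraMap K' M)) = ⊤)
    (Ω : Type u) [Field Ω] [IsAlgClosed Ω] [Algebra K Ω] [Algebra L Ω] [Algebra K' Ω] [Algebra M Ω]
    [IsScalarTower K L Ω] [IsScalarTower K K' Ω] [IsScalarTower L M Ω] [IsScalarTower K' M Ω]
    [Algebra.IsAlgebraic M Ω] :
    IsTamelyRamified B ((algebraMap L M).comp (algebraMap B L)) := by
  classical
  letI : Algebra A K' := ((algebraMap K K').comp (algebraMap A K)).toAlgebra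
  haveI : IsScalarTower A K K' := IsScalarTower.of_algebraMap_eq fun _ => rfl
  obtain ⟨π, hπ⟩ := IsDiscreteValuationRing.exists_irreducible A
  obtain ⟨e₀, h0, hk, hall⟩ := exists_uniform (K := K) hπ h
  obtain ⟨L'', i₁, i₂, i₃, g, hfin, hsep, hof, hun⟩ := hall 1 one_pos (by rw [Nat.cast_one]; exact one_ne_zero)
  haveI := hfin
  haveI := hsep
  let e := 1 * e₀
  have he0 : e ≠ 0 := by omega
  have heA : (e : ResidueField A) ≠ 0 := by rw [show e = e₀ from one_mul e₀]; exact hk
  obtain ⟨_, hdvr, hxirr, hinjA, hrep⟩ := rootRing_data A π hπ e he0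
  let Ae := AdjoinRoot (X ^ e - C π : A[X])
  haveI : FiniteDimensional L M := by
    let q : L ⊗[K] K' →ₐ[L] M :=
      Algebra.TensorProduct.lift (Algebra.ofId L M) (IsScalarTower.toAlgHom K K' M) fun _ _ => Commute.all _ _
    refine Module.Finite.of_surjective q.toLinearMap fun x => ?_
    have hle : Algebra.adjoin L (Set.range (algebraMap K' M)) ≤ q.range := Algebra.adjoin_le fun _ ⟨y, hy⟩ =>
      ⟨1 ⊗ₜ y, by simp [q, ← hy]⟩
    exact hle (hgen ▸ Algebra.mem_top)
  haveI : Algebra.IsAlgebraic L Ω := Algebra.IsAlgebraic.trans L M Ω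
  -- L'' inside Ω
  letI : Algebra K' L'' := g.toRingHom.toAlgebra
  haveI : IsScalarTower K K' L'' := IsScalarTower.of_algebraMap_eq fun k => (g.commutes k).symm
  haveI : FiniteDimensional K' L'' := Module.Finite.of_restrictScalars_finite K K' L''
  obtain ⟨j⟩ : Nonempty (L'' →ₐ[K'] Ω) := ⟨IsAlgClosed.lift⟩
  let r : Ω := j (algebraMap Ae L'' (AdjoinRoot.root _))
  have hr : r ^ e = algebraMap K Ω (algebraMap A K π) := by
    have h := congrArg (algebraMap Ae L'') (AdjoinRoot.eval₂_root (X ^ e - C π : A[X]))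
    rw [eval₂_sub, eval₂_X_pow, eval₂_C, map_sub, map_pow, map_zero, sub_eq_zero] at h
    rw [← map_pow, h, show algebraMap Ae L'' (AdjoinRoot.of _ π) = algebraMap K L'' (algebraMap A K π) from
      RingHom.congr_fun hof π]
    exact (j.restrictScalars K).commutes _
  -- the uniformizer of B
  obtain ⟨ρ, hρ⟩ := IsDiscreteValuationRing.exists_irreducible B
  have hπB : algebraMap A B π ≠ 0 := fun h0 => hπ.ne_zero (IsFractionRing.injective A K ((algebraMap K L).injective (by
    rw [← IsScalarTower.algebraMap_apply A K L, IsScalarTower.algebraMap_apply A B L, h0, map_zero, map_zero, map_zero])))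
  obtain ⟨m, u, hu⟩ := IsDiscreteValuationRing.eq_unit_mul_pow_irreducible hπB hρ
  letI : Algebra B Ω := ((algebraMap L Ω).comp (algebraMap B L)).toAlgebra
  haveI : IsScalarTower B L Ω := IsScalarTower.of_algebraMap_eq fun _ => rfl
  obtain ⟨ρ', hρ'⟩ := IsAlgClosed.exists_pow_nat_eq (algebraMap B Ω ρ) (Nat.pos_of_ne_zero he0)
  have hρ0 : algebraMap B Ω ρ ≠ 0 :=
    ((algebraMap L Ω).injective.comp (IsFractionRing.injective B L)).ne hρ.ne_zero |>.trans_eq (by simp)
  have hρ'0 : ρ' ≠ 0 := fun h0 => hρ0 (by rw [← hρ', h0, zero_pow he0])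
  let v := r / ρ' ^ m
  have hv : v ^ e = algebraMap B Ω u := by
    rw [div_pow, hr, ← pow_mul, mul_comm, pow_mul, hρ', IsScalarTower.algebraMap_apply K L Ω,
      ← IsScalarTower.algebraMap_apply A K L, IsScalarTower.algebraMap_apply A B L,
      ← IsScalarTower.algebraMap_apply B L Ω, hu, map_mul, map_pow]
    exact mul_div_cancel_right₀ _ (pow_ne_zero _ hρ0)
  have hrv : r = v * ρ' ^ m := (div_mul_cancel₀ _ (pow_ne_zero _ hρ'0)).symm
  have hkB : (e : ResidueField B) ≠ 0 := by
    rw [← map_natCast (algebraMap (ResidueField A) (ResidueField B))]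
    exact (_root_.map_ne_zero _).mpr heA
  have hsepX : ∀ {F : Type u} [Field F] [Algebra L F] (c : F), c ≠ 0 → (X ^ e - C c).Separable := fun {F} _ _ c hc => by
    refine separable_X_pow_sub_C c (fun h0 => hkB ?_) hc
    have h1 : (e : B) = 0 := IsFractionRing.injective B L ((algebraMap L F).injective (by
      rw [map_natCast, map_natCast, h0, map_zero, map_zero]))
    rw [← map_natCast (residue B), h1, map_zero]
  -- first step
  let E₀ := IntermediateField.adjoin L ({v} : Set Ω)
  haveI : FiniteDimensional L E₀ := IntermediateField.adjoin.finiteDimensional (Algebra.IsIntegral.isIntegral v)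
  haveI : Algebra.IsSeparable L E₀ := by
    refine (IntermediateField.isSeparable_adjoin_simple_iff_isSeparable L Ω).mpr ?_
    refine (hsepX (algebraMap B L u) ((u.isUnit.map _).ne_zero)).of_dvd (minpoly.dvd _ _ ?_)
    rw [map_sub, map_pow, aeval_X, aeval_C, hv, ← IsScalarTower.algebraMap_apply, sub_self]
  letI : Algebra B E₀ := ((algebraMap L E₀).comp (algebraMap B L)).toAlgebra
  haveI : IsScalarTower B L E₀ := IsScalarTower.of_algebraMap_eq fun _ => rfl
  -- second step
  let E₁ := IntermediateField.adjoin E₀ ({ρ'} : Set Ω)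
  haveI : FiniteDimensional E₀ E₁ := IntermediateField.adjoin.finiteDimensional (Algebra.IsIntegral.isIntegral ρ')
  haveI : FiniteDimensional L E₁ := Module.Finite.trans E₀ E₁
  haveI : Algebra.IsSeparable E₀ E₁ := by
    refine (IntermediateField.isSeparable_adjoin_simple_iff_isSeparable E₀ Ω).mpr ?_
    refine (hsepX (F := E₀) (algebraMap B E₀ ρ) ?_).of_dvd (minpoly.dvd _ _ ?_)
    · exact fun h0 => hρ0 (congrArg Subtype.val h0)
    · rw [map_sub, map_pow, aeval_X, aeval_C, hρ', sub_eq_zero]
      rfl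
  haveI : Algebra.IsSeparable L E₁ := Algebra.IsSeparable.trans L E₀ E₁
  have hE₁ : IsTamelyRamified B ((algebraMap L E₁).comp (algebraMap B L)) :=
    root_tower_tame (E₀ := E₀) (E₁ := E₁) hρ he0 hkB u (IntermediateField.AdjoinSimple.gen L v)
      (Subtype.ext (by rw [SubmonoidClass.coe_pow, IntermediateField.AdjoinSimple.coe_gen, hv]; rfl))
      (adjoin_gen_eq_top v) (IntermediateField.AdjoinSimple.gen E₀ ρ')
      (Subtype.ext (by rw [SubmonoidClass.coe_pow, IntermediateField.AdjoinSimple.coe_gen, hρ']; rfl))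
      (adjoin_gen_eq_top ρ')
  -- third step
  haveI : IsScalarTower L E₀ Ω := IsScalarTower.of_algebraMap_eq fun _ => rfl
  haveI : IsScalarTower L E₁ Ω := IsScalarTower.of_algebraMap_eq fun _ => rfl
  letI : Algebra K E₁ := ((algebraMap L E₁).comp (algebraMap K L)).toAlgebra
  haveI : IsScalarTower K L E₁ := IsScalarTower.of_algebraMap_eq fun _ => rfl
  haveI : IsScalarTower K E₁ Ω := IsScalarTower.of_algebraMap_eq fun k => by
    rw [IsScalarTower.algebraMap_apply K L E₁, ← IsScalarTower.algebraMap_apply L E₁ Ω, ← IsScalarTower.algebraMap_apply K L Ω]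
  let S : Set Ω := Set.range j
  let M₂ := IntermediateField.adjoin E₁ S
  have hjsep : ∀ x : L'', IsSeparable E₁ (j x) := fun x => by
    have h1 : IsSeparable K (j x) :=
      (isSeparable_map_iff (j.restrictScalars K) (j.restrictScalars K).toRingHom.injective).mpr
        (Algebra.IsSeparable.isSeparable K x)
    exact (h1.tower_top L).tower_top E₁
  haveI : Algebra.IsSeparable E₁ M₂ :=
    (IntermediateField.isSeparable_adjoin_iff_isSeparable E₁ Ω).mpr (by rintro _ ⟨x, rfl⟩; exact hjsep x)
  letI : Algebra K M₂ := ((algebraMap E₁ M₂).comp (algebraMap K E₁)).toAlgebra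
  haveI : IsScalarTower K E₁ M₂ := IsScalarTower.of_algebraMap_eq fun _ => rfl
  haveI : IsScalarTower K M₂ Ω := IsScalarTower.of_algebraMap_eq fun k => by
    rw [IsScalarTower.algebraMap_apply K E₁ M₂, ← IsScalarTower.algebraMap_apply E₁ M₂ Ω,
      ← IsScalarTower.algebraMap_apply K E₁ Ω]
  have hmemS : ∀ x, j x ∈ M₂ := fun x => IntermediateField.subset_adjoin E₁ S ⟨x, rfl⟩
  let iR : L'' →+* M₂ := RingHom.codRestrict j.toRingHom M₂ hmemS
  letI : Algebra L'' M₂ := iR.toAlgebra
  have hiR : ∀ x, algebraMap M₂ Ω (iR x) = j x := fun x => rfl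
  haveI : IsScalarTower K L'' M₂ := IsScalarTower.of_algebraMap_eq fun k => (algebraMap M₂ Ω).injective (by
    rw [← IsScalarTower.algebraMap_apply K M₂ Ω]
    exact ((hiR _).trans ((j.restrictScalars K).commutes k)).symm)
  let i'' : L'' →ₐ[K] M₂ := IsScalarTower.toAlgHom K L'' M₂
  have hgen₂ : Algebra.adjoin E₁ (Set.range (algebraMap L'' M₂)) = ⊤ := by
    refine Subalgebra.map_injective (f := M₂.val) Subtype.val_injective ?_
    rw [AlgHom.map_adjoin, ← Set.range_comp, Algebra.map_top, IntermediateField.range_val,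
      IntermediateField.adjoin_toSubalgebra_of_isAlgebraic (fun x _ => Algebra.IsAlgebraic.isAlgebraic x)]
    rfl
  haveI : FiniteDimensional E₁ M₂ := by
    let q : E₁ ⊗[K] L'' →ₐ[E₁] M₂ :=
      Algebra.TensorProduct.lift (Algebra.ofId E₁ M₂) i'' fun _ _ => Commute.all _ _
    refine Module.Finite.of_surjective q.toLinearMap fun x => ?_
    have hle : Algebra.adjoin E₁ (Set.range (algebraMap L'' M₂)) ≤ q.range := Algebra.adjoin_le fun _ ⟨y, hy⟩ =>
      ⟨1 ⊗ₜ y, by rw [← hy]; show q (1 ⊗ₜ y) = i'' y; simp [q]⟩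
    exact hle (hgen₂ ▸ Algebra.mem_top)
  haveI : FiniteDimensional L M₂ := Module.Finite.trans E₁ M₂
  haveI : Algebra.IsSeparable L M₂ := Algebra.IsSeparable.trans L E₁ M₂
  have hM₂ : IsTamelyRamified B ((algebraMap L M₂).comp (algebraMap B L)) := by
    refine (Groth.L05.TameTower.top_result B L E₁ M₂).1 hE₁ fun Z hZ => ?_
    haveI := Groth.L05.TameTower.isDiscreteValuationRing_of_dominates B L E₁ Z hZ
    letI : Algebra B Z := (RingHom.codRestrict ((algebraMap L E₁).comp (algebraMap B L)) Z hZ.1).toAlgebra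
    haveI : IsLocalHom (algebraMap B Z) := Groth.L05.TameTower.isLocalHom_codRestrict _ Z hZ
    letI : Algebra A Z := ((algebraMap B Z).comp (algebraMap A B)).toAlgebra
    haveI : IsLocalHom (algebraMap A Z) := ⟨fun a ha =>
      isUnit_of_map_unit (algebraMap A B) a (isUnit_of_map_unit (algebraMap B Z) _ ha)⟩
    have hrmem : r ∈ E₁ := by
      rw [hrv]
      exact mul_mem (E₁.algebraMap_mem ⟨v, IntermediateField.mem_adjoin_simple_self L v⟩)
        (pow_mem (IntermediateField.mem_adjoin_simple_self E₀ ρ') m)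
    refine tame_of_root hπ he0 hxirr hof hun Z (fun a => ?_) ⟨r, hrmem⟩ ?_ hgen₂ ?_
    · show algebraMap L E₁ (algebraMap B L (algebraMap A B a)) = _
      rw [← IsScalarTower.algebraMap_apply A B L, IsScalarTower.algebraMap_apply A K L,
        ← IsScalarTower.algebraMap_apply K L E₁]
    · refine Subtype.ext ?_
      rw [SubmonoidClass.coe_pow, hr]
      exact IsScalarTower.algebraMap_apply K E₁ Ω (algebraMap A K π)
    · exact Subtype.ext rfl
  -- down to M
  have hMle : ∀ x : M, algebraMap M Ω x ∈ M₂ := by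
    intro x
    have hx : x ∈ Algebra.adjoin L (Set.range (algebraMap K' M)) := hgen ▸ Algebra.mem_top
    induction hx using Algebra.adjoin_induction with
    | mem y hy =>
      obtain ⟨z, rfl⟩ := hy
      refine IntermediateField.subset_adjoin E₁ S ⟨algebraMap K' L'' z, ?_⟩
      rw [j.commutes, IsScalarTower.algebraMap_apply K' M Ω]
    | algebraMap l => rw [← IsScalarTower.algebraMap_apply]; exact (M₂.restrictScalars L).algebraMap_mem l
    | add y z _ _ hy hz => rw [map_add]; exact add_mem hy hz
    | mul y z _ _ hy hz => rw [map_mul]; exact mul_mem hy hz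
  letI : Algebra M M₂ := (RingHom.codRestrict (algebraMap M Ω) M₂ hMle).toAlgebra
  haveI : IsScalarTower L M M₂ := IsScalarTower.of_algebraMap_eq fun l => Subtype.ext
    (IsScalarTower.algebraMap_apply L M Ω l)
  exact (Groth.L05.TameTower.bot_result B L M M₂).1 hM₂

/-- A compositum of a tamely ramified extension is tamely ramified. -/
theorem tame_compositum {A B K L K' : Type u} [CommRing A] [IsDomain A]
    [IsDiscreteValuationRing A] [CommRing B] [IsDomain B] [IsDiscreteValuationRing B] [Algebra A B]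
    [IsLocalHom (algebraMap A B)]
    [Field K] [Field L] [Field K'] [Algebra A K] [IsFractionRing A K] [Algebra B L] [IsFractionRing B L]
    [Algebra K L] [Algebra A L] [IsScalarTower A K L] [IsScalarTower A B L]
    [Algebra K K'] [FiniteDimensional K K'] [Algebra.IsSeparable K K']
    (h : IsTamelyRamified A ((algebraMap K K').comp (algebraMap A K)))
    (M : Type u) [Field M] [Algebra K M] [Algebra L M] [Algebra K' M] [IsScalarTower K L M] [IsScalarTower K K' M]
    (hgen : Algebra.adjoin L (Set.range (algebraMap K' M)) = ⊤) :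
    IsTamelyRamified B ((algebraMap L M).comp (algebraMap B L)) :=
  tame_compositum_aux h M hgen (AlgebraicClosure M)

end Groth.L05.TameRoot
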