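import Groth.Agent.L05.TameRoot.BaseChange
import Mathlib.FieldTheory.Normal.Closure
import Mathlib.FieldTheory.SeparableClosure

/-!
Galois closures and composita of unramified and of tamely ramified extensions.
-/

set_option autoImplicit false
set_option linter.style.haveILetI false
set_option maxSynthPendingDepth 3
universe u

open IsLocalRing EtRam

namespace Groth.L05.TameRoot

variable (K : Type u) [Field K]

/-- A property of finite separable extensions stable under composita and subextensions. -/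
def CompStable (P : ∀ (L : Type u) [Field L] [Algebra K L], Prop) : Prop :=
  (∀ (L₁ L₂ M : Type u) [Field L₁] [Field L₂] [Field M] [Algebra K L₁] [Algebra K L₂] [Algebra K M] [Algebra L₁ M]
    [Algebra L₂ M] [IsScalarTower K L₁ M] [IsScalarTower K L₂ M] [FiniteDimensional K L₂] [Algebra.IsSeparable K L₂]
    [FiniteDimensional K M] [Algebra.IsSeparable K M],
    Algebra.adjoin L₁ (Set.range (algebraMap L₂ M)) = ⊤ → P L₁ → P L₂ → P M) ∧
  (∀ (L M : Type u) [Field L] [Field M] [Algebra K L] [Algebra K M] [Algebra L M] [IsScalarTower K L M]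
    [FiniteDimensional K M] [Algebra.IsSeparable K M], P M → P L)

variable {K}

theorem compStable_of_range (P : ∀ (L : Type u) [Field L] [Algebra K L], Prop) (hP : CompStable K P) {L : Type u}
    [Field L] [Algebra K L] [FiniteDimensional K L] [Algebra.IsSeparable K L] (h : P L) {Ω : Type u} [Field Ω]
    [Algebra K Ω] (f : L →ₐ[K] Ω) : P f.fieldRange := by
  let e : L ≃ₐ[K] f.fieldRange := AlgEquiv.ofInjectiveField f
  letI : Algebra f.fieldRange L := e.symm.toAlgHom.toRingHom.toAlgebra
  haveI : IsScalarTower K f.fieldRange L := IsScalarTower.of_algebraMap_eq fun k => (e.symm.commutes k).symm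
  exact hP.2 f.fieldRange L h

theorem compStable_sup (P : ∀ (L : Type u) [Field L] [Algebra K L], Prop) (hP : CompStable K P) {Ω : Type u} [Field Ω]
    [Algebra K Ω] (N R : IntermediateField K Ω) [FiniteDimensional K N] [Algebra.IsSeparable K N]
    [FiniteDimensional K R] [Algebra.IsSeparable K R] (hN : P N) (hR : P R) : P ↥(N ⊔ R) := by
  letI : Algebra N ↥(N ⊔ R) := (IntermediateField.inclusion (le_sup_left : N ≤ N ⊔ R)).toRingHom.toAlgebra
  letI : Algebra R ↥(N ⊔ R) := (IntermediateField.inclusion (le_sup_right : R ≤ N ⊔ R)).toRingHom.toAlgebra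
  haveI : IsScalarTower K N ↥(N ⊔ R) := IsScalarTower.of_algebraMap_eq fun k =>
    ((IntermediateField.inclusion (le_sup_left : N ≤ N ⊔ R)).commutes k).symm
  haveI : IsScalarTower K R ↥(N ⊔ R) := IsScalarTower.of_algebraMap_eq fun k =>
    ((IntermediateField.inclusion (le_sup_right : R ≤ N ⊔ R)).commutes k).symm
  refine hP.1 N R ↥(N ⊔ R) ?_ hN hR
  refine eq_top_iff.mpr fun x hx => ?_
  clear hx
  obtain ⟨x, hx⟩ := x
  have hx' : x ∈ Algebra.adjoin K ((N : Set Ω) ∪ (R : Set Ω)) := by
    have h1 : x ∈ (N ⊔ R).toSubalgebra := hx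
    rw [IntermediateField.sup_toSubalgebra_of_left] at h1
    rw [Algebra.adjoin_union]
    have h2 : N.toSubalgebra ⊔ R.toSubalgebra ≤ Algebra.adjoin K (N : Set Ω) ⊔ Algebra.adjoin K (R : Set Ω) :=
      sup_le_sup (fun y hy => Algebra.subset_adjoin hy) (fun y hy => Algebra.subset_adjoin hy)
    exact h2 h1
  suffices h : ∀ y ∈ Algebra.adjoin K ((N : Set Ω) ∪ (R : Set Ω)),
      ∃ hy : y ∈ N ⊔ R, (⟨y, hy⟩ : ↥(N ⊔ R)) ∈ Algebra.adjoin N (Set.range (algebraMap R ↥(N ⊔ R))) by
    obtain ⟨_, h⟩ := h x hx'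
    exact h
  intro y hy
  induction hy using Algebra.adjoin_induction with
  | mem y hy =>
    rcases hy with hy | hy
    · exact ⟨(le_sup_left : N ≤ N ⊔ R) hy, (Algebra.adjoin N _).algebraMap_mem ⟨y, hy⟩⟩
    · exact ⟨(le_sup_right : R ≤ N ⊔ R) hy, Algebra.subset_adjoin ⟨⟨y, hy⟩, rfl⟩⟩
  | algebraMap k =>
    exact ⟨(N ⊔ R).algebraMap_mem k, (Algebra.adjoin N (Set.range (algebraMap R ↥(N ⊔ R)))).algebraMap_mem (algebraMap K N k)⟩
  | add a b _ _ ha hb => obtain ⟨ha, ha'⟩ := ha; obtain ⟨hb, hb'⟩ := hb; exact ⟨add_mem ha hb, add_mem ha' hb'⟩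
  | mul a b _ _ ha hb => obtain ⟨ha, ha'⟩ := ha; obtain ⟨hb, hb'⟩ := hb; exact ⟨mul_mem ha hb, mul_mem ha' hb'⟩

/-- A stable property passes to the Galois closure. -/
theorem exists_galois_closure (P : ∀ (L : Type u) [Field L] [Algebra K L], Prop) (hP : CompStable K P) (L : Type u)
    [Field L] [Algebra K L] [FiniteDimensional K L] [Algebra.IsSeparable K L] (h : P L) :
    ∃ (M : Type u) (_ : Field M) (_ : Algebra K M) (_ : FiniteDimensional K M) (_ : IsGalois K M) (_ : L →ₐ[K] M),
      P M := by
  classical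
  let Ω := AlgebraicClosure L
  haveI : Normal K Ω := IsAlgClosure.normal K Ω
  let S := (L →ₐ[K] Ω)
  haveI : Fintype S := minpoly.AlgHom.fintype K L Ω
  have key : ∀ s : Finset S, s.Nonempty →
      FiniteDimensional K ↥(s.sup fun f => f.fieldRange) ∧ Algebra.IsSeparable K ↥(s.sup fun f => f.fieldRange) ∧
        P ↥(s.sup fun f => f.fieldRange) := by
    intro s hs
    have hfs : ∀ f : S, FiniteDimensional K f.fieldRange ∧ Algebra.IsSeparable K f.fieldRange := fun f =>
      ⟨(AlgEquiv.ofInjectiveField f).toLinearEquiv.finiteDimensional, AlgEquiv.Algebra.isSeparable (AlgEquiv.ofInjectiveField f)⟩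
    induction hs using Finset.Nonempty.cons_induction with
    | singleton f =>
      rw [Finset.sup_singleton]
      exact ⟨(hfs f).1, (hfs f).2, compStable_of_range P hP h f⟩
    | cons f s hf hs ih =>
      rw [Finset.sup_cons]
      obtain ⟨h1, h2, h3⟩ := ih
      haveI := h1
      haveI := h2
      haveI := (hfs f).1
      haveI := (hfs f).2
      exact ⟨inferInstance, inferInstance, compStable_sup P hP _ _ (compStable_of_range P hP h f) h3⟩
  obtain ⟨h1, h2, h3⟩ := key Finset.univ ⟨IsScalarTower.toAlgHom K L Ω, Finset.mem_univ _⟩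
  have e : IntermediateField.normalClosure K L Ω = (Finset.univ : Finset S).sup fun f => f.fieldRange := by
    rw [normalClosure_def, Finset.sup_univ_eq_iSup]
  rw [← e] at h1 h2 h3
  haveI := h1
  haveI := h2
  exact ⟨IntermediateField.normalClosure K L Ω, inferInstance, inferInstance, h1, IsGalois.mk,
    IsScalarTower.toAlgHom K L (IntermediateField.normalClosure K L Ω), h3⟩

/-- A stable property holds for some compositum. -/
theorem exists_compositum (P : ∀ (L : Type u) [Field L] [Algebra K L], Prop) (hP : CompStable K P) (L₁ L₂ : Type u)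
    [Field L₁] [Algebra K L₁] [FiniteDimensional K L₁] [Algebra.IsSeparable K L₁]
    [Field L₂] [Algebra K L₂] [FiniteDimensional K L₂] [Algebra.IsSeparable K L₂] (h₁ : P L₁) (h₂ : P L₂) :
    ∃ (M : Type u) (_ : Field M) (_ : Algebra K M) (_ : FiniteDimensional K M) (_ : Algebra.IsSeparable K M)
      (_ : L₁ →ₐ[K] M) (_ : L₂ →ₐ[K] M), P M := by
  let Ω := AlgebraicClosure L₁
  let f : L₁ →ₐ[K] Ω := IsScalarTower.toAlgHom K L₁ Ω
  obtain ⟨g⟩ : Nonempty (L₂ →ₐ[K] Ω) := ⟨IsAlgClosed.lift⟩
  haveI : FiniteDimensional K f.fieldRange := (AlgEquiv.ofInjectiveField f).toLinearEquiv.finiteDimensional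
  haveI : Algebra.IsSeparable K f.fieldRange := AlgEquiv.Algebra.isSeparable (AlgEquiv.ofInjectiveField f)
  haveI : FiniteDimensional K g.fieldRange := (AlgEquiv.ofInjectiveField g).toLinearEquiv.finiteDimensional
  haveI : Algebra.IsSeparable K g.fieldRange := AlgEquiv.Algebra.isSeparable (AlgEquiv.ofInjectiveField g)
  exact ⟨↥(f.fieldRange ⊔ g.fieldRange), inferInstance, inferInstance, inferInstance, inferInstance,
    (IntermediateField.inclusion le_sup_left).comp (AlgEquiv.ofInjectiveField f).toAlgHom,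
    (IntermediateField.inclusion le_sup_right).comp (AlgEquiv.ofInjectiveField g).toAlgHom,
    compStable_sup P hP _ _ (compStable_of_range P hP h₁ f) (compStable_of_range P hP h₂ g)⟩

variable (A : Type u) [CommRing A] [IsDomain A] [IsDiscreteValuationRing A] [Algebra A K] [IsFractionRing A K]

theorem compStable_unramified :
    CompStable K (fun L _ _ => IsUnramifiedExt A ((algebraMap K L).comp (algebraMap A K))) := by
  refine ⟨fun L₁ L₂ M => ?_, fun L M => ?_⟩
  · intro _ _ _ _ _ _ _ _ _ _ _ _ _ _ hgen h₁ h₂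
    haveI : FiniteDimensional K L₁ := FiniteDimensional.left K L₁ M
    haveI : Algebra.IsSeparable K L₁ := Algebra.isSeparable_tower_bot_of_isSeparable K L₁ M
    refine (Groth.L05.TameTower.top_result A K L₁ M).2 h₁ fun V hV => ?_
    letI : Algebra A L₁ := ((algebraMap K L₁).comp (algebraMap A K)).toAlgebra
    haveI : IsScalarTower A K L₁ := IsScalarTower.of_algebraMap_eq fun _ => rfl
    letI : Algebra A V := (RingHom.codRestrict ((algebraMap K L₁).comp (algebraMap A K)) V hV.1).toAlgebra
    haveI : IsScalarTower A V L₁ := IsScalarTower.of_algebraMap_eq fun _ => rfl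
    haveI : IsLocalHom (algebraMap A V) := Groth.L05.TameTower.isLocalHom_codRestrict _ V hV
    haveI := Groth.L05.TameTower.isDiscreteValuationRing_of_dominates A K L₁ V hV
    exact unramified_compositum (A := A) (B := V) (K := K) (L := L₁) (K' := L₂) h₂ M hgen
  · intro _ _ _ _ _ _ _ _ h
    exact (Groth.L05.TameTower.bot_result A K L M).2 h

theorem compStable_tame :
    CompStable K (fun L _ _ => IsTamelyRamified A ((algebraMap K L).comp (algebraMap A K))) := by
  refine ⟨fun L₁ L₂ M => ?_, fun L M => ?_⟩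
  · intro _ _ _ _ _ _ _ _ _ _ _ _ _ _ hgen h₁ h₂
    haveI : FiniteDimensional K L₁ := FiniteDimensional.left K L₁ M
    haveI : Algebra.IsSeparable K L₁ := Algebra.isSeparable_tower_bot_of_isSeparable K L₁ M
    refine (Groth.L05.TameTower.top_result A K L₁ M).1 h₁ fun V hV => ?_
    letI : Algebra A L₁ := ((algebraMap K L₁).comp (algebraMap A K)).toAlgebra
    haveI : IsScalarTower A K L₁ := IsScalarTower.of_algebraMap_eq fun _ => rfl
    letI : Algebra A V := (RingHom.codRestrict ((algebraMap K L₁).comp (algebraMap A K)) V hV.1).toAlgebra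
    haveI : IsScalarTower A V L₁ := IsScalarTower.of_algebraMap_eq fun _ => rfl
    haveI : IsLocalHom (algebraMap A V) := Groth.L05.TameTower.isLocalHom_codRestrict _ V hV
    haveI := Groth.L05.TameTower.isDiscreteValuationRing_of_dominates A K L₁ V hV
    exact tame_compositum (A := A) (B := V) (K := K) (L := L₁) (K' := L₂) h₂ M hgen
  · intro _ _ _ _ _ _ _ _ h
    exact (Groth.L05.TameTower.bot_result A K L M).1 h

end Groth.L05.TameRoot
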