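import Groth.Agent.L05.TameRoot.Generated
import Groth.Agent.L05.Abhyankar.Main
import Mathlib.FieldTheory.IsAlgClosed.AlgebraicClosure

/-!
Tamely ramified extensions become unramified over a root of a uniformizer.
-/

set_option autoImplicit false
set_option linter.style.haveILetI false
set_option maxSynthPendingDepth 3
universe u

open Polynomial IsLocalRing EtRam

namespace Groth.L05.TameRoot

theorem adjoin_gen_eq_top {K E : Type u} [Field K] [Field E] [Algebra K E] (r : E) :
    IntermediateField.adjoin K {IntermediateField.AdjoinSimple.gen K r} = ⊤ := by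
  refine IntermediateField.map_injective (IntermediateField.val _) ?_
  rw [IntermediateField.adjoin_map, Set.image_singleton, ← AlgHom.fieldRange_eq_map, IntermediateField.fieldRange_val]
  rfl

/-- Weakly unramified means ramification index one. -/
theorem idx_eq_one {A W : Type u} [CommRing A] [IsLocalRing A] [CommRing W] [IsDomain W]
    [IsDiscreteValuationRing W] [Algebra A W] (hw : (maximalIdeal A).map (algebraMap A W) = maximalIdeal W) :
    Ideal.ramificationIdx' (maximalIdeal A) (maximalIdeal W) = 1 :=
  Ideal.ramificationIdx'_spec (by rw [pow_one]; exact hw.le)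
    (by rw [hw]; simpa using (Ideal.pow_succ_lt_pow (IsDiscreteValuationRing.not_a_field W) 1).not_ge)

section Forward

variable {A K L : Type u} [CommRing A] [IsDomain A] [IsDiscreteValuationRing A] [Field K] [Algebra A K]
  [IsFractionRing A K] [Field L] [Algebra K L] [Algebra A L] [IsScalarTower A K L] [FiniteDimensional K L]
  [Algebra.IsSeparable K L]

/-- The ramification index divides the factorial of the degree. -/
theorem idx_dvd_factorial (V : ValuationSubring L) [Algebra A V] [IsScalarTower A V L] [IsLocalHom (algebraMap A V)] :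
    Ideal.ramificationIdx' (maximalIdeal A) (maximalIdeal V) ∣ (Module.finrank K L).factorial := by
  obtain ⟨hdV, -⟩ := Groth.L05.SepResidueSol.isDiscreteValuationRing_of_finite A K V
  haveI := hdV
  obtain ⟨π, hπ⟩ := IsDiscreteValuationRing.exists_irreducible A
  obtain ⟨ρ, hρ⟩ := IsDiscreteValuationRing.exists_irreducible V
  have hinj : Function.Injective (algebraMap A V) := fun a b h => IsFractionRing.injective A K ((algebraMap K L).injective (by
    rw [← IsScalarTower.algebraMap_apply, ← IsScalarTower.algebraMap_apply, IsScalarTower.algebraMap_apply A V L, h,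
      ← IsScalarTower.algebraMap_apply A V L]))
  have he := Groth.L05.TameTower.map_eq_pow_idx A V hinj
  generalize Ideal.ramificationIdx' (maximalIdeal A) (maximalIdeal V) = e at he
  rw [hπ.maximalIdeal_eq, hρ.maximalIdeal_eq, Ideal.map_span, Set.image_singleton, Ideal.span_singleton_pow,
    Ideal.span_singleton_eq_span_singleton] at he
  obtain ⟨j, hj⟩ := Groth.L05.SepResidueSol.exists_pow_eq_pow A K V hπ hρ.ne_zero
  obtain ⟨u, hu⟩ := he.symm
  have h1 : V.valuation (algebraMap A L π) = V.valuation (ρ : L) ^ e := by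
    rw [IsScalarTower.algebraMap_apply A V L, ← hu, map_mul, map_pow, map_mul, map_pow]
    show _ * V.valuation ((u : V) : L) = _
    rw [(V.valuation_eq_one_iff (u : V)).mp u.isUnit, mul_one]
    rfl
  rw [h1, ← pow_mul] at hj
  refine ⟨j, pow_right_injective₀ (zero_lt_iff.mpr ((_root_.map_ne_zero _).mpr fun h => hρ.ne_zero (Subtype.ext h)))
    (lt_of_le_of_ne (V.valuation_le_one ρ) fun h => hρ.not_isUnit ((V.valuation_eq_one_iff ρ).mpr h)).ne hj⟩

/-- Abhyankar: a tame extension becomes unramified over a root of a uniformizer of large index. -/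
theorem unramified_over_root {π : A} (hπ : Irreducible π) (h : IsTamelyRamified A (algebraMap A L))
    {e : ℕ} (he : (e : ResidueField A) ≠ 0)
    (hdvd : ∀ (V : ValuationSubring L) (hV : Dominates A (algebraMap A L) V),
      letI : Algebra A V := (RingHom.codRestrict (algebraMap A L) V hV.1).toAlgebra
      Ideal.ramificationIdx' (maximalIdeal A) (maximalIdeal V) ∣ e)
    {L' : Type u} [Field L'] [Algebra L L'] [Algebra K L'] [IsScalarTower K L L'] [FiniteDimensional K L']
    (r : L') (hr : r ^ e = algebraMap K L' (algebraMap A K π)) (hgen : IntermediateField.adjoin L {r} = ⊤)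
    [IsLocalRing (AdjoinRoot (X ^ e - C π : A[X]))] [Algebra (AdjoinRoot (X ^ e - C π : A[X])) L']
    (hof : (algebraMap (AdjoinRoot (X ^ e - C π : A[X])) L').comp (AdjoinRoot.of (X ^ e - C π)) =
      (algebraMap K L').comp (algebraMap A K))
    (hroot : algebraMap (AdjoinRoot (X ^ e - C π : A[X])) L' (AdjoinRoot.root _) = r) :
    IsUnramifiedExt (AdjoinRoot (X ^ e - C π : A[X])) (algebraMap (AdjoinRoot (X ^ e - C π : A[X])) L') := by
  classical
  have he0 : e ≠ 0 := fun h => he (by rw [h, Nat.cast_zero])
  obtain ⟨_, hdvr, hxirr, hinjA, hrep⟩ := rootRing_data A π hπ e he0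
  let Ae := AdjoinRoot (X ^ e - C π : A[X])
  intro W hW
  letI : Algebra Ae W := (RingHom.codRestrict (algebraMap Ae L') W hW.1).toAlgebra
  intro _
  have hofa : ∀ a : A, algebraMap Ae L' (AdjoinRoot.of _ a) = algebraMap K L' (algebraMap A K a) :=
    fun a => RingHom.congr_fun hof a
  have hmemA : ∀ a ∈ maximalIdeal A, AdjoinRoot.of (X ^ e - C π) a ∈ maximalIdeal Ae := fun a ha => by
    rw [hπ.maximalIdeal_eq, Ideal.mem_span_singleton] at ha
    obtain ⟨c, rfl⟩ := ha
    rw [map_mul]
    refine Ideal.mul_mem_right _ _ ?_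
    have h := AdjoinRoot.eval₂_root (X ^ e - C π : A[X])
    rw [eval₂_sub, eval₂_X_pow, eval₂_C, sub_eq_zero] at h
    rw [← h]
    exact Ideal.pow_mem_of_mem _ ((mem_maximalIdeal _).mpr hxirr.not_isUnit) e (Nat.pos_of_ne_zero he0)
  have hWA : Dominates A ((algebraMap L L').comp (algebraMap A L)) W := by
    refine ⟨fun a => ?_, fun a ha => ?_⟩
    · show algebraMap L L' (algebraMap A L a) ∈ W
      rw [IsScalarTower.algebraMap_apply A K L, ← IsScalarTower.algebraMap_apply K L L', ← hofa]
      exact hW.1 _
    · show W.valuation (algebraMap L L' (algebraMap A L a)) < 1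
      rw [IsScalarTower.algebraMap_apply A K L, ← IsScalarTower.algebraMap_apply K L L', ← hofa]
      exact hW.2 _ (hmemA a ha)
  obtain ⟨hV, hVW⟩ := Groth.L05.TameTower.dominates_comap (algebraMap A L) (algebraMap L L') W hWA
  let V := W.comap (algebraMap L L')
  letI : Algebra A V := (RingHom.codRestrict (algebraMap A L) V hV.1).toAlgebra
  haveI : IsScalarTower A V L := IsScalarTower.of_algebraMap_eq fun _ => rfl
  haveI : IsLocalHom (algebraMap A V) := Groth.L05.TameTower.isLocalHom_codRestrict _ V hV
  obtain ⟨hdV, -⟩ := Groth.L05.SepResidueSol.isDiscreteValuationRing_of_finite A K V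
  haveI := hdV
  obtain ⟨hsepV, hpV⟩ := h V hV
  have hinjV : Function.Injective (algebraMap A V) := fun a b h => IsFractionRing.injective A K ((algebraMap K L).injective (by
    rw [← IsScalarTower.algebraMap_apply, ← IsScalarTower.algebraMap_apply, IsScalarTower.algebraMap_apply A V L, h,
      ← IsScalarTower.algebraMap_apply A V L]))
  have htame : CharZero (ResidueField A) ∨ ∃ p : ℕ, p.Prime ∧ CharP (ResidueField A) p ∧
      ¬ p ∣ Ideal.ramificationIdx' (maximalIdeal A) (maximalIdeal V) ∧
      Algebra.IsGeometricallyReduced (ResidueField A) (ResidueField V) := by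
    rcases CharP.exists' (ResidueField A) with hz | ⟨p, hp, hc⟩
    · exact Or.inl hz
    · refine Or.inr ⟨p, hp.out, hc, hpV p hp.out hc, ?_⟩
      haveI := hsepV
      haveI : Module.Finite (ResidueField A) (ResidueField V) := Groth.L05.SepResidueSol.finite_residueField A K V
      rw [Algebra.isGeometricallyReduced_field_iff]
      exact Groth.L03.GeomReduced2.isReduced_tensorProduct_of_isSeparable
  let K₁ : IntermediateField K L' := IntermediateField.adjoin K {r}
  let V₁ := W.comap (algebraMap K₁ L')
  letI : Algebra A L' := ((algebraMap K L').comp (algebraMap A K)).toAlgebra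
  haveI : IsScalarTower A K L' := IsScalarTower.of_algebraMap_eq fun _ => rfl
  have hA : ∀ a : A, (algebraMap K K₁) (algebraMap A K a) ∈ V₁ := fun a => by
    show algebraMap K₁ L' (algebraMap K K₁ (algebraMap A K a)) ∈ W
    rw [← IsScalarTower.algebraMap_apply K K₁ L', ← hofa]
    exact hW.1 _
  letI : Algebra A K₁ := ((algebraMap K K₁).comp (algebraMap A K)).toAlgebra
  haveI : IsScalarTower A K K₁ := IsScalarTower.of_algebraMap_eq fun _ => rfl
  letI : Algebra A V₁ := (RingHom.codRestrict ((algebraMap K K₁).comp (algebraMap A K)) V₁ hA).toAlgebra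
  haveI : IsScalarTower A V₁ K₁ := IsScalarTower.of_algebraMap_eq fun _ => rfl
  letI : Algebra V₁ W := (inclOfComap W (algebraMap K₁ L')).toAlgebra
  haveI : IsScalarTower V₁ W L' := IsScalarTower.of_algebraMap_eq fun _ => rfl
  haveI : IsLocalHom (algebraMap V₁ W) := isLocalHom_inclOfComap W (algebraMap K₁ L')
  haveI : IsLocalHom (algebraMap A V₁) := ⟨fun a ha => by
    by_contra hu
    have h1 := hWA.2 a ((mem_maximalIdeal a).mpr hu)
    have h2 := ha.map (algebraMap V₁ W)
    replace h2 := (W.valuation_eq_one_iff _).mp h2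
    refine h1.ne ?_
    show W.valuation (algebraMap L L' (algebraMap A L a)) = 1
    rw [IsScalarTower.algebraMap_apply A K L, ← IsScalarTower.algebraMap_apply K L L',
      IsScalarTower.algebraMap_apply K K₁ L']
    exact h2⟩
  have hr₁ : (IntermediateField.AdjoinSimple.gen K r) ^ e = algebraMap A K₁ π := Subtype.ext (by
    rw [SubmonoidClass.coe_pow, IntermediateField.AdjoinSimple.coe_gen, hr]
    rfl)
  obtain ⟨y, hy, hmax₁, hres₁, hidx⟩ :=
    uniformizer_root_facts A K V₁ hπ he0 hr₁ (adjoin_gen_eq_top r)
  haveI : FiniteDimensional L L' := Module.Finite.of_restrictScalars_finite K L L'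
  have hgen' : Algebra.adjoin L (Set.range (algebraMap K₁ L')) = ⊤ := by
    refine eq_top_iff.mpr fun x _ => ?_
    have h1 : Algebra.adjoin L {r} = ⊤ := by
      rw [← IntermediateField.adjoin_simple_toSubalgebra_of_isAlgebraic (Algebra.IsAlgebraic.isAlgebraic (R := L) r),
        hgen, IntermediateField.top_toSubalgebra]
    refine Algebra.adjoin_mono ?_ (h1 ▸ Algebra.mem_top : x ∈ Algebra.adjoin L {r})
    rw [Set.singleton_subset_iff]
    exact ⟨IntermediateField.AdjoinSimple.gen K r, IntermediateField.AdjoinSimple.algebraMap_gen K r⟩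
  obtain ⟨hwu, hgr⟩ := Groth.L05.Abhyankar.abhyankar A V K L hinjV htame K₁ L' hgen' W hVW hA
    (by rw [hidx]; exact hdvd V hV)
  obtain ⟨hd₁, -⟩ := Groth.L05.SepResidueSol.isDiscreteValuationRing_of_finite A K V₁
  haveI := hd₁
  haveI : FiniteDimensional K₁ L' := Module.Finite.of_restrictScalars_finite K K₁ L'
  haveI : Module.Finite (ResidueField V₁) (ResidueField W) := Groth.L05.SepResidueSol.finite_residueField V₁ K₁ W
  haveI : Algebra.IsGeometricallyReduced (ResidueField V₁) (ResidueField W) := by
    have e₀ : (inferInstance : Algebra (ResidueField V₁) (ResidueField W)) =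
        (ResidueField.map (inclOfComap W (algebraMap K₁ L'))).toAlgebra :=
      Algebra.algebra_ext _ _ fun z => by
        obtain ⟨z, rfl⟩ := residue_surjective z
        rfl
    convert hgr using 1
  haveI hs₁ : Algebra.IsSeparable (ResidueField V₁) (ResidueField W) := isSeparable_of_geomReduced _ _
  -- the map from the root ring
  have hev : eval₂ (algebraMap A V₁) y (X ^ e - C π) = 0 := by
    rw [eval₂_sub, eval₂_X_pow, eval₂_C, sub_eq_zero]
    exact Subtype.ext (by rw [SubmonoidClass.coe_pow, hy]; exact hr₁)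
  let j : Ae →+* V₁ := AdjoinRoot.lift (algebraMap A V₁) y hev
  letI : Algebra Ae V₁ := j.toAlgebra
  haveI : IsScalarTower Ae V₁ W := IsScalarTower.of_algebraMap_eq' (by
    refine Ideal.Quotient.ringHom_ext (Polynomial.ringHom_ext (fun a => ?_) ?_)
    · refine Subtype.ext ?_
      show algebraMap Ae L' (AdjoinRoot.of _ a) = algebraMap K₁ L' (j (AdjoinRoot.of _ a) : K₁)
      rw [AdjoinRoot.lift_of, hofa, IsScalarTower.algebraMap_apply K K₁ L']
      rfl
    · refine Subtype.ext ?_
      show algebraMap Ae L' (AdjoinRoot.root _) = algebraMap K₁ L' (j (AdjoinRoot.root _) : K₁)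
      rw [AdjoinRoot.lift_root, hroot, hy, IntermediateField.AdjoinSimple.algebraMap_gen])
  haveI : IsLocalHom (algebraMap Ae V₁) := ⟨fun t ht => by
    have := ht.map (algebraMap V₁ W)
    rw [← IsScalarTower.algebraMap_apply] at this
    exact isUnit_of_map_unit (algebraMap Ae W) t this⟩
  have hjroot : algebraMap Ae V₁ (AdjoinRoot.root _) = y := AdjoinRoot.lift_root hev
  refine ⟨?_, ?_⟩
  · show (maximalIdeal Ae).map (algebraMap Ae W) = maximalIdeal W
    rw [IsScalarTower.algebraMap_eq Ae V₁ W, ← Ideal.map_map, hxirr.maximalIdeal_eq, Ideal.map_span,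
      Set.image_singleton, hjroot, ← hmax₁]
    exact hwu
  · haveI : Algebra.IsSeparable (ResidueField Ae) (ResidueField V₁) := ⟨fun z => by
      obtain ⟨a, rfl⟩ := hres₁ z
      have : residue V₁ (algebraMap A V₁ a) = algebraMap (ResidueField Ae) (ResidueField V₁) (residue Ae (AdjoinRoot.of _ a)) := by
        show _ = residue V₁ (j (AdjoinRoot.of _ a))
        rw [AdjoinRoot.lift_of]
      show IsSeparable _ (residue V₁ (algebraMap A V₁ a))
      rw [this]
      exact isSeparable_algebraMap _⟩
    exact Algebra.IsSeparable.trans _ (ResidueField V₁) _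

/-- A tame extension becomes unramified over roots of a uniformizer of all large indices. -/
theorem exists_uniform {π : A} (hπ : Irreducible π) (h : IsTamelyRamified A (algebraMap A L)) :
    ∃ e₀ : ℕ, 0 < e₀ ∧ (e₀ : ResidueField A) ≠ 0 ∧
      ∀ d : ℕ, 0 < d → (d : ResidueField A) ≠ 0 →
        ∃ (L' : Type u) (_ : Field L') (_ : Algebra K L')
          (_ : Algebra (AdjoinRoot (X ^ (d * e₀) - C π : A[X])) L') (_ : L →ₐ[K] L'),
          FiniteDimensional K L' ∧ Algebra.IsSeparable K L' ∧
          (algebraMap (AdjoinRoot (X ^ (d * e₀) - C π : A[X])) L').comp (AdjoinRoot.of (X ^ (d * e₀) - C π)) =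
            (algebraMap K L').comp (algebraMap A K) ∧
          ∀ [IsLocalRing (AdjoinRoot (X ^ (d * e₀) - C π : A[X]))],
            EtRam.IsUnramifiedExt (AdjoinRoot (X ^ (d * e₀) - C π : A[X]))
              (algebraMap (AdjoinRoot (X ^ (d * e₀) - C π : A[X])) L') := by
  classical
  let S : Finset ℕ := (Nat.divisors (Module.finrank K L).factorial).filter fun n : ℕ => ((Nat.cast n : ResidueField A) ≠ 0)
  refine ⟨S.prod id, Finset.prod_pos fun n hn => Nat.pos_of_mem_divisors (Finset.mem_filter.mp hn).1, ?_,
    fun d hd hdk => ?_⟩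
  · rw [Nat.cast_prod, Finset.prod_ne_zero_iff]
    exact fun n hn => (Finset.mem_filter.mp hn).2
  let e := d * S.prod id
  have he : (e : ResidueField A) ≠ 0 := by
    rw [Nat.cast_mul, Nat.cast_prod]
    exact mul_ne_zero hdk (Finset.prod_ne_zero_iff.mpr fun n hn => (Finset.mem_filter.mp hn).2)
  have he0 : e ≠ 0 := fun h => he (by rw [h, Nat.cast_zero])
  have hdvd : ∀ (V : ValuationSubring L) (hV : Dominates A (algebraMap A L) V),
      letI : Algebra A V := (RingHom.codRestrict (algebraMap A L) V hV.1).toAlgebra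
      Ideal.ramificationIdx' (maximalIdeal A) (maximalIdeal V) ∣ e := by
    intro V hV
    letI : Algebra A V := (RingHom.codRestrict (algebraMap A L) V hV.1).toAlgebra
    haveI : IsScalarTower A V L := IsScalarTower.of_algebraMap_eq fun _ => rfl
    haveI : IsLocalHom (algebraMap A V) := Groth.L05.TameTower.isLocalHom_codRestrict _ V hV
    have hi := idx_dvd_factorial (A := A) (K := K) V
    obtain ⟨-, hp⟩ := h V hV
    refine dvd_mul_of_dvd_right (Finset.dvd_prod_of_mem id (Finset.mem_filter.mpr
      ⟨Nat.mem_divisors.mpr ⟨hi, Nat.factorial_ne_zero _⟩, ?_⟩)) d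
    rcases CharP.exists' (ResidueField A) with hz | ⟨p, hpp, hc⟩
    · exact Nat.cast_ne_zero.mpr (ne_zero_of_dvd_ne_zero (Nat.factorial_ne_zero _) hi)
    · exact fun h0 => hp p hpp.out hc ((CharP.cast_eq_zero_iff _ p _).mp h0)
  let Ω := AlgebraicClosure L
  obtain ⟨r, hr⟩ := IsAlgClosed.exists_pow_nat_eq (algebraMap K Ω (algebraMap A K π)) (Nat.pos_of_ne_zero he0)
  let L' := IntermediateField.adjoin L ({r} : Set Ω)
  have hrint : IsIntegral L r := Algebra.IsIntegral.isIntegral r
  haveI : FiniteDimensional L L' := IntermediateField.adjoin.finiteDimensional hrint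
  haveI : FiniteDimensional K L' := Module.Finite.trans L L'
  let r' : L' := IntermediateField.AdjoinSimple.gen L r
  have hr' : r' ^ e = algebraMap K L' (algebraMap A K π) := Subtype.ext (by
    rw [SubmonoidClass.coe_pow, IntermediateField.AdjoinSimple.coe_gen, hr]
    rfl)
  have hev : eval₂ ((algebraMap K L').comp (algebraMap A K)) r' (X ^ e - C π) = 0 := by
    rw [eval₂_sub, eval₂_X_pow, eval₂_C, hr']
    exact sub_self _
  letI : Algebra (AdjoinRoot (X ^ e - C π : A[X])) L' := (AdjoinRoot.lift _ r' hev).toAlgebra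
  haveI : Algebra.IsSeparable K L' := by
    haveI : Algebra.IsSeparable L L' := by
      refine (IntermediateField.isSeparable_adjoin_simple_iff_isSeparable L Ω).mpr ?_
      refine (separable_X_pow_sub_C (n := e) (algebraMap K L (algebraMap A K π)) ?_ ?_).of_dvd (minpoly.dvd _ _ ?_)
      · intro h0
        have h1 : (e : A) = 0 := IsFractionRing.injective A K ((algebraMap K L).injective (by
          rw [map_natCast, map_natCast, h0, map_zero, map_zero]))
        exact he (by rw [← map_natCast (residue A), h1, map_zero])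
      · intro h0
        exact hπ.ne_zero (IsFractionRing.injective A K ((algebraMap K L).injective (by rw [h0, map_zero, map_zero])))
      · rw [map_sub, map_pow, aeval_X, aeval_C, ← IsScalarTower.algebraMap_apply K L Ω, hr, sub_self]
    exact Algebra.IsSeparable.trans K L L'
  refine ⟨L', inferInstance, inferInstance, inferInstance, IsScalarTower.toAlgHom K L L', inferInstance, inferInstance,
    RingHom.ext fun a => AdjoinRoot.lift_of hev, ?_⟩
  intro _
  exact unramified_over_root hπ h he hdvd r' hr' (adjoin_gen_eq_top r)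
    (RingHom.ext fun a => AdjoinRoot.lift_of hev) (AdjoinRoot.lift_root hev)

/-- An extension which becomes unramified over a root of a uniformizer is tame. -/
theorem tame_of_unramified_over_root {π : A} (hπ : Irreducible π) {e : ℕ} (he : (e : ResidueField A) ≠ 0)
    {L' : Type u} [Field L'] [Algebra K L'] [Algebra (AdjoinRoot (X ^ e - C π : A[X])) L'] (i : L →ₐ[K] L')
    [FiniteDimensional K L'] [Algebra.IsSeparable K L']
    (hof : (algebraMap (AdjoinRoot (X ^ e - C π : A[X])) L').comp (AdjoinRoot.of (X ^ e - C π)) =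
      (algebraMap K L').comp (algebraMap A K))
    (hun : ∀ [IsLocalRing (AdjoinRoot (X ^ e - C π : A[X]))],
      EtRam.IsUnramifiedExt (AdjoinRoot (X ^ e - C π : A[X]))
        (algebraMap (AdjoinRoot (X ^ e - C π : A[X])) L')) :
    IsTamelyRamified A (algebraMap A L) := by
  classical
  have he0 : e ≠ 0 := fun h => he (by rw [h, Nat.cast_zero])
  obtain ⟨_, hdvr, hxirr, hinjA, hrep⟩ := rootRing_data A π hπ e he0
  let Ae := AdjoinRoot (X ^ e - C π : A[X])
  let r := algebraMap Ae L' (AdjoinRoot.root _)
  have hr : r ^ e = algebraMap K L' (algebraMap A K π) := by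
    have h := congrArg (algebraMap Ae L') (AdjoinRoot.eval₂_root (X ^ e - C π : A[X]))
    rw [eval₂_sub, eval₂_X_pow, eval₂_C, map_sub, map_pow, map_zero, sub_eq_zero] at h
    exact h.trans (RingHom.congr_fun hof π)
  let K₁ := IntermediateField.adjoin K ({r} : Set L')
  letI : Algebra L L' := i.toRingHom.toAlgebra
  haveI : IsScalarTower K L L' := IsScalarTower.of_algebraMap_eq fun k => (i.commutes k).symm
  rw [IsScalarTower.algebraMap_eq A K L]
  refine (Groth.L05.TameTower.bot_result A K L L').1 ((Groth.L05.TameTower.top_result A K K₁ L').1 ?_ ?_)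
  · intro V hV
    letI : Algebra A V := (RingHom.codRestrict ((algebraMap K K₁).comp (algebraMap A K)) V hV.1).toAlgebra
    intro _
    letI : Algebra A K₁ := ((algebraMap K K₁).comp (algebraMap A K)).toAlgebra
    haveI : IsScalarTower A K K₁ := IsScalarTower.of_algebraMap_eq fun _ => rfl
    haveI : IsScalarTower A V K₁ := IsScalarTower.of_algebraMap_eq fun _ => rfl
    have hr₁ : (IntermediateField.AdjoinSimple.gen K r) ^ e = algebraMap A K₁ π := Subtype.ext (by
      rw [SubmonoidClass.coe_pow, IntermediateField.AdjoinSimple.coe_gen, hr]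
      rfl)
    obtain ⟨y, hy, hmax₁, hres₁, hidx⟩ := uniformizer_root_facts A K V hπ he0 hr₁ (adjoin_gen_eq_top r)
    refine ⟨⟨fun z => ?_⟩, fun p hp hc hd => ?_⟩
    · obtain ⟨a, rfl⟩ := hres₁ z
      exact isSeparable_algebraMap (residue A a)
    · haveI := hc
      rw [hidx] at hd
      exact he ((CharP.cast_eq_zero_iff _ p e).mpr hd)
  · intro V hV W hW
    letI : Algebra V W := (RingHom.codRestrict ((algebraMap K₁ L').comp V.subtype) W hW.1).toAlgebra
    intro _
    letI : Algebra A V := (RingHom.codRestrict ((algebraMap K K₁).comp (algebraMap A K)) V hV.1).toAlgebra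
    haveI : IsLocalHom (algebraMap A V) := Groth.L05.TameTower.isLocalHom_codRestrict _ V hV
    letI : Algebra A K₁ := ((algebraMap K K₁).comp (algebraMap A K)).toAlgebra
    haveI : IsScalarTower A K K₁ := IsScalarTower.of_algebraMap_eq fun _ => rfl
    haveI : IsScalarTower A V K₁ := IsScalarTower.of_algebraMap_eq fun _ => rfl
    have hr₁ : (IntermediateField.AdjoinSimple.gen K r) ^ e = algebraMap A K₁ π := Subtype.ext (by
      rw [SubmonoidClass.coe_pow, IntermediateField.AdjoinSimple.coe_gen, hr]
      rfl)
    obtain ⟨y, hy, hmax₁, hres₁, hidx⟩ := uniformizer_root_facts A K V hπ he0 hr₁ (adjoin_gen_eq_top r)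
    have hev : eval₂ (algebraMap A V) y (X ^ e - C π) = 0 := by
      rw [eval₂_sub, eval₂_X_pow, eval₂_C, sub_eq_zero]
      exact Subtype.ext (by rw [SubmonoidClass.coe_pow, hy]; exact hr₁)
    let j : Ae →+* V := AdjoinRoot.lift (algebraMap A V) y hev
    letI : Algebra Ae V := j.toAlgebra
    have hjroot : j (AdjoinRoot.root _) = y := AdjoinRoot.lift_root hev
    have hcomp : ∀ t : Ae, algebraMap Ae L' t = algebraMap K₁ L' (j t : K₁) := by
      suffices h : algebraMap Ae L' = ((algebraMap K₁ L').comp V.subtype).comp j from RingHom.congr_fun h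
      refine Ideal.Quotient.ringHom_ext (Polynomial.ringHom_ext (fun a => ?_) ?_)
      · show algebraMap Ae L' (AdjoinRoot.of _ a) = algebraMap K₁ L' (j (AdjoinRoot.of _ a) : K₁)
        rw [AdjoinRoot.lift_of]
        refine (RingHom.congr_fun hof a).trans ?_
        exact IsScalarTower.algebraMap_apply K K₁ L' (algebraMap A K a)
      · show algebraMap Ae L' (AdjoinRoot.root _) = algebraMap K₁ L' (j (AdjoinRoot.root _) : K₁)
        rw [hjroot, hy, IntermediateField.AdjoinSimple.algebraMap_gen]
    have hjmax : ∀ t ∈ maximalIdeal Ae, j t ∈ maximalIdeal V := fun t ht => by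
      rw [hxirr.maximalIdeal_eq, Ideal.mem_span_singleton] at ht
      obtain ⟨c, rfl⟩ := ht
      rw [map_mul, hjroot, hmax₁]
      exact Ideal.mul_mem_right _ _ (Ideal.mem_span_singleton_self y)
    have hWe : Dominates Ae (algebraMap Ae L') W :=
      ⟨fun t => by rw [hcomp]; exact hW.1 (j t), fun t ht => by rw [hcomp]; exact hW.2 (j t) (hjmax t ht)⟩
    letI : Algebra Ae W := (RingHom.codRestrict (algebraMap Ae L') W hWe.1).toAlgebra
    haveI : IsLocalHom (algebraMap Ae W) := Groth.L05.TameTower.isLocalHom_codRestrict _ W hWe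
    haveI : IsScalarTower Ae V W := IsScalarTower.of_algebraMap_eq fun t => Subtype.ext (hcomp t)
    haveI : IsLocalHom (algebraMap Ae V) := ⟨fun t ht => by
      by_contra hu
      exact (mem_maximalIdeal _).mp (hjmax t ((mem_maximalIdeal t).mpr hu)) ht⟩
    obtain ⟨hwu, hsep⟩ := hun W hWe
    haveI := hsep
    refine ⟨Algebra.isSeparable_tower_top_of_isSeparable (ResidueField Ae) (ResidueField V) (ResidueField W),
      fun p hp _ hd => ?_⟩
    haveI : Algebra.IsSeparable K K₁ := Algebra.isSeparable_tower_bot_of_isSeparable K K₁ L'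
    have hWA : Dominates A ((algebraMap K L').comp (algebraMap A K)) W := by
      refine ⟨fun a => ?_, fun a ha => ?_⟩
      · show algebraMap K L' (algebraMap A K a) ∈ W
        rw [IsScalarTower.algebraMap_apply K K₁ L']
        exact hW.1 ⟨_, hV.1 a⟩
      · show W.valuation (algebraMap K L' (algebraMap A K a)) < 1
        rw [IsScalarTower.algebraMap_apply K K₁ L']
        exact hW.2 ⟨_, hV.1 a⟩ ((ValuationSubring.valuation_lt_one_iff V ⟨_, hV.1 a⟩).mpr (hV.2 a ha))
    haveI := Groth.L05.TameTower.isDiscreteValuationRing_of_dominates A K L' W hWA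
    have hmapW : (maximalIdeal V).map (algebraMap V W) = maximalIdeal W := by
      rw [← hwu, IsScalarTower.algebraMap_eq Ae V W, ← Ideal.map_map]
      congr 1
      rw [hxirr.maximalIdeal_eq, Ideal.map_span, Set.image_singleton, hmax₁]
      exact congrArg _ (congrArg _ hjroot.symm)
    rw [idx_eq_one hmapW] at hd
    exact hp.one_lt.ne' (Nat.dvd_one.mp hd)

end Forward

end Groth.L05.TameRoot
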